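import Cfsg.Agent.Omega.IId.PlaneRk

/-!
# II.d, CASE 1, `q = 2`, case B: counting with a pairing

helper310.  `dual_card` : a bi-additive pairing `f : A × H → F₂` with left kernel in `Y`, `K ≤ H` in the right kernel:
`|A| |K| ≤ |Y| |H|`.
-/

set_option autoImplicit false
set_option linter.unusedVariables false

namespace Cfsg.Agent.Omega.IId.Pf.Dual

open Cfsg.Agent.Omega.TV hiding z2
open Subgroup Cfsg.Agent.Omega.IId.PlaneSy Cfsg.Agent.Omega.IId.PlaneRk
open Cfsg.Agent.Omega.IId.SpForm (two_mul_card_le)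
open Cfsg.Agent.Omega.IId.SpSide (card_le_two_mul)

variable {G : Type*} [Group G]

/-- kernel of an additive function -/
def ker (A : Subgroup G) (f : G → ZMod 2) (hadd : ∀ x ∈ A, ∀ y ∈ A, f (x * y) = f x + f y) : Subgroup G where
  carrier := {x | x ∈ A ∧ f x = 0}
  one_mem' := ⟨A.one_mem, by
    have := hadd 1 A.one_mem 1 A.one_mem
    rw [one_mul, z2_self] at this
    exact this⟩
  mul_mem' := by
    rintro x y ⟨hx, hx'⟩ ⟨hy, hy'⟩
    exact ⟨mul_mem hx hy, by rw [hadd x hx y hy, hx', hy', add_zero]⟩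
  inv_mem' := by
    rintro x ⟨hx, hx'⟩
    refine ⟨inv_mem hx, ?_⟩
    have h1 := hadd 1 A.one_mem 1 A.one_mem
    rw [one_mul, z2_self] at h1
    have h2 := hadd x⁻¹ (inv_mem hx) x hx
    rw [inv_mul_cancel, h1, hx', add_zero] at h2
    exact h2.symm

theorem mem_ker {A : Subgroup G} {f : G → ZMod 2} {hadd : ∀ x ∈ A, ∀ y ∈ A, f (x * y) = f x + f y} {x : G} :
    x ∈ ker A f hadd ↔ x ∈ A ∧ f x = 0 := Iff.rfl

theorem card_ker' [Finite G] {A : Subgroup G} {f : G → ZMod 2} (hadd : ∀ x ∈ A, ∀ y ∈ A, f (x * y) = f x + f y)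
    (hne : ∃ x ∈ A, f x = 1) : Nat.card A = 2 * Nat.card (ker A f hadd) :=
  card_ker hadd (fun _ => Iff.rfl) hne

/-- the annihilator -/
def ann (A H : Subgroup G) (f : G → G → ZMod 2) (hh : ∀ x ∈ A, ∀ y ∈ H, ∀ z ∈ H, f x (y * z) = f x y + f x z) :
    Subgroup G where
  carrier := {z | z ∈ H ∧ ∀ x ∈ A, f x z = 0}
  one_mem' := ⟨H.one_mem, fun x hx => by
    have := hh x hx 1 H.one_mem 1 H.one_mem
    rw [one_mul, z2_self] at this
    exact this⟩
  mul_mem' := by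
    rintro y z ⟨hy, hy'⟩ ⟨hz, hz'⟩
    exact ⟨mul_mem hy hz, fun x hx => by rw [hh x hx y hy z hz, hy' x hx, hz' x hx, add_zero]⟩
  inv_mem' := by
    rintro y ⟨hy, hy'⟩
    refine ⟨inv_mem hy, fun x hx => ?_⟩
    have h1 := hh x hx 1 H.one_mem 1 H.one_mem
    rw [one_mul, z2_self] at h1
    have h2 := hh x hx y⁻¹ (inv_mem hy) y hy
    rw [inv_mul_cancel, h1, hy' x hx, add_zero] at h2
    exact h2.symm

theorem mem_ann {A H : Subgroup G} {f : G → G → ZMod 2}
    {hh : ∀ x ∈ A, ∀ y ∈ H, ∀ z ∈ H, f x (y * z) = f x y + f x z} {z : G} :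
    z ∈ ann A H f hh ↔ z ∈ H ∧ ∀ x ∈ A, f x z = 0 := Iff.rfl

theorem dual_card [Finite G] {H Y : Subgroup G} {f : G → G → ZMod 2} (n : ℕ) : ∀ {A : Subgroup G}, Nat.card A = n →
    (∀ x ∈ A, ∀ y ∈ A, ∀ z ∈ H, f (x * y) z = f x z + f y z) →
    (∀ x ∈ A, ∀ y ∈ H, ∀ z ∈ H, f x (y * z) = f x y + f x z) →
    (∀ x ∈ A, (∀ z ∈ H, f x z = 0) → x ∈ Y) → ∀ {K : Subgroup G}, K ≤ H → (∀ z ∈ K, ∀ x ∈ A, f x z = 0) →
    Nat.card A * Nat.card K ≤ Nat.card Y * Nat.card H := by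
  induction n using Nat.strong_induction_on with
  | _ n ih =>
    intro A hn ha hh hY K hKH hK
    by_cases hAY : A ≤ Y
    · exact Nat.mul_le_mul (Subgroup.card_le_of_le hAY) (Subgroup.card_le_of_le hKH)
    obtain ⟨x, hx, hxY⟩ := SetLike.not_le_iff_exists.1 hAY
    obtain ⟨z, hz, hxz⟩ : ∃ z ∈ H, f x z = 1 := by
      by_contra hcon
      push Not at hcon
      exact hxY (hY x hx fun z hz => (z2 _).resolve_right (hcon z hz))
    have hadd : ∀ x ∈ A, ∀ y ∈ A, f (x * y) z = f x z + f y z := fun x hx y hy => ha x hx y hy z hz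
    have hc := card_ker' (f := fun x => f x z) hadd ⟨x, hx, hxz⟩
    set A' := ker A (fun x => f x z) hadd with hA'
    have hA'A : A' ≤ A := fun y hy => hy.1
    have hpos : 0 < Nat.card A' := Nat.card_pos
    have hh' : ∀ x ∈ A', ∀ y ∈ H, ∀ z ∈ H, f x (y * z) = f x y + f x z := fun x hx => hh x (hA'A hx)
    have h1 := ih (Nat.card A') (by omega) (A := A') rfl (fun x hx y hy => ha x (hA'A hx) y (hA'A hy)) hh'
      (fun x hx => hY x (hA'A hx)) (K := ann A' H f hh') (fun y hy => hy.1) (fun y hy => hy.2)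
    have h2 : 2 * Nat.card K ≤ Nat.card (ann A' H f hh') :=
      two_mul_card_le (fun y hy => ⟨hKH hy, fun x hx => hK y hy x (hA'A hx)⟩)
        ⟨z, ⟨hz, fun y hy => hy.2⟩, fun hzK => by
          have := hK z hzK x hx
          rw [hxz] at this
          exact absurd this (by decide)⟩
    calc Nat.card A * Nat.card K = Nat.card A' * (2 * Nat.card K) := by rw [hc]; ring
      _ ≤ Nat.card A' * Nat.card (ann A' H f hh') := Nat.mul_le_mul_left _ h2
      _ ≤ _ := h1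

/-- A totally isotropic subgroup meeting the radical trivially: `|A|² ≤ |N|`. -/
theorem card_iso [Finite G] {C N A : Subgroup G} {r c : G} (o : GOrth C N r c) (hA : A ≤ N) (hc : c ∉ A)
    (hi : ∀ x ∈ A, ∀ y ∈ A, Bg C r x y = 0) : Nat.card A * (2 * Nat.card A) ≤ Nat.card N := by
  have hs := sy_of o
  have hm : ∀ x ∈ A, (∀ z ∈ N, Bg C r x z = 0) → x ∈ (⊥ : Subgroup G) := by
    intro x hx hx0
    rw [mem_bot]
    rcases o.rad x (hA hx) hx0 with h1 | h1
    · exact h1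
    · exact absurd (h1 ▸ hx) hc
  have hh : ∀ x ∈ A, ∀ y ∈ N, ∀ z ∈ N, Bg C r x (y * z) = Bg C r x y + Bg C r x z := fun x hx => o.add x (hA hx)
  have h1 := dual_card (H := N) (Y := ⊥) (f := Bg C r) _ (A := A) rfl
    (fun x hx y hy z hz => o.add_left (hA hx) (hA hy) hz) hh hm
    (K := ann A N (Bg C r) hh) (fun y hy => hy.1) (fun z hz x hx => hz.2 x hx)
  have h2 : 2 * Nat.card A ≤ Nat.card (ann A N (Bg C r) hh) :=
    two_mul_card_le (fun y hy => ⟨hA hy, fun x hx => hi x hx y hy⟩)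
      ⟨c, ⟨o.c_mem, fun x hx => by rw [o.comm x (hA hx) c o.c_mem]; exact o.Bc x (hA hx)⟩, hc⟩
  rw [Subgroup.card_bot, one_mul] at h1
  exact (Nat.mul_le_mul_left _ h2).trans h1

end Cfsg.Agent.Omega.IId.Pf.Dual
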