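import Cfsg.Agent.Omega.IId.Pf.Par
import Cfsg.Agent.Omega.IId.Pf.Dual

/-!
# II.d, CASE 1, `q = 2`, case B: `|T| ≥ 2²⁴`

helper370, after helper310.  `Aᵢ = v₃₋ᵢ^⊥` in `Nᵢ`.  `A₂ ≤ Kk v₁`, and `C_{A₂}(Q₁) = {1, v₁, v₂, v₁v₂}`; the
commutator form on `A₂ × Q₁` gives `|Q₁| ≥ 2¹⁵`, on `A₁ × Q₂` it gives `|Q₂ : Q₁ ∩ Q₂| ≥ 2⁵`.  The group
`Ta = {t ∈ T : [R, t] ≤ ⟨v₂⟩} ≠ T` contains `Q₁Q₂`, and `|Ta : Q₁Q₂| ≥ 2³`.
-/

set_option autoImplicit false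
set_option linter.unusedSectionVars false
set_option linter.unusedVariables false

namespace Cfsg.Agent.Omega.IId.Pf.Card

open Cfsg.Agent.Omega.TV hiding z2
open Subgroup Cfsg Cfsg.Agent.ZN Cfsg.Agent.Omega.IId.PlaneSy Cfsg.Agent.Omega.IId.PlaneRk
open Cfsg.Agent.Omega.IId.PlaneF Cfsg.Agent.Omega.IId.PlaneOf
open Cfsg.Agent.Omega.IId.One Cfsg.Agent.Omega.IId.SpSide
open Cfsg.Agent.Omega.MinPar
open Cfsg.Agent.Omega.NoFF.Basic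
open Cfsg.Agent.Omega.IId.Pf.Rad Cfsg.Agent.Omega.IId.Pf.Par Cfsg.Agent.Omega.IId.Pf.Dual
open Cfsg.Agent.Omega.IId.SpForm (two_mul_card_le)
open Cfsg.Agent.Omega.IId.Two (le_normalizer_of)
open scoped Pointwise commutatorElement

universe u

variable {G : Type u} [Group G]

theorem card_sup [Finite G] (A B : Subgroup G) :
    Nat.card A * Nat.card B ≤ Nat.card (A ⊓ B : Subgroup G) * Nat.card (A ⊔ B : Subgroup G) := by
  have h1 := relIndex_mul_relIndex (⊥ : Subgroup G) (A ⊓ B) A bot_le inf_le_left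
  have h2 := relIndex_mul_relIndex (⊥ : Subgroup G) B (A ⊔ B) bot_le le_sup_right
  rw [relIndex_bot_left, relIndex_bot_left, inf_relIndex_left] at h1
  rw [relIndex_bot_left, relIndex_bot_left] at h2
  have h4 : B.relIndex A ≤ B.relIndex (A ⊔ B) := relIndex_le_of_le_right le_sup_left (by
    rw [relIndex]
    exact index_ne_zero_of_finite)
  calc Nat.card A * Nat.card B = Nat.card (A ⊓ B : Subgroup G) * (Nat.card B * B.relIndex A) := by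
        rw [← h1]; ring
    _ ≤ Nat.card (A ⊓ B : Subgroup G) * (Nat.card B * B.relIndex (A ⊔ B)) := by gcongr
    _ = _ := by rw [h2]

/-! ### The commutator form -/

/-- the commutator form -/
noncomputable def cf (a x : G) : ZMod 2 := open Classical in if a * x = x * a then 0 else 1

theorem cf_zero {a x : G} : cf a x = 0 ↔ a * x = x * a := by
  unfold cf
  split_ifs with h <;> simp [h]

theorem cf_one {a x : G} : cf a x = 1 ↔ a * x ≠ x * a := by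
  unfold cf
  split_ifs with h <;> simp [h]

theorem cf_of0 {a x : G} (h : a * x * a⁻¹ = x) : cf a x = 0 := cf_zero.2 (mul_inv_eq_iff_eq_mul.1 h)

theorem cf_of1 {v a x : G} (hv : v ≠ 1) (h : a * x * a⁻¹ = v * x) : cf a x = 1 := cf_one.2 fun e => hv (by
  have h1 : a * x * a⁻¹ = x := mul_inv_eq_iff_eq_mul.2 e
  rw [h] at h1
  exact mul_eq_right.1 h1)

theorem cf_val {v a x : G} (hv : v ≠ 1) (h : a * x * a⁻¹ = x ∨ a * x * a⁻¹ = v * x) :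
    (cf a x = 0 ∧ a * x * a⁻¹ = x) ∨ (cf a x = 1 ∧ a * x * a⁻¹ = v * x) := by
  rcases h with h | h
  · exact Or.inl ⟨cf_of0 h, h⟩
  · exact Or.inr ⟨cf_of1 hv h, h⟩

theorem cf_add_left {v a b x : G} (hv : v ≠ 1) (hvv : v * v = 1) (hav : a * v = v * a)
    (ha : a * x * a⁻¹ = x ∨ a * x * a⁻¹ = v * x) (hb : b * x * b⁻¹ = x ∨ b * x * b⁻¹ = v * x) :
    cf (a * b) x = cf a x + cf b x := by
  have e : a * b * x * (a * b)⁻¹ = a * (b * x * b⁻¹) * a⁻¹ := by group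
  have e2 : a * (v * x) * a⁻¹ = v * (a * x * a⁻¹) := by
    calc a * (v * x) * a⁻¹ = (a * v) * x * a⁻¹ := by group
      _ = v * (a * x * a⁻¹) := by rw [hav]; group
  rcases cf_val hv ha with ⟨h1, h2⟩ | ⟨h1, h2⟩ <;> rcases cf_val hv hb with ⟨h3, h4⟩ | ⟨h3, h4⟩ <;>
    rw [h1, h3]
  · rw [cf_of0 (by rw [e, h4, h2])]; decide
  · rw [cf_of1 hv (by rw [e, h4, e2, h2])]; decide
  · rw [cf_of1 hv (by rw [e, h4, h2])]; decide
  · rw [cf_of0 (by rw [e, h4, e2, h2, ← mul_assoc, hvv, one_mul])]; decide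

theorem cf_add_right {v a x y : G} (hv : v ≠ 1) (hvv : v * v = 1) (hxv : x * v = v * x)
    (hx : a * x * a⁻¹ = x ∨ a * x * a⁻¹ = v * x) (hy : a * y * a⁻¹ = y ∨ a * y * a⁻¹ = v * y) :
    cf a (x * y) = cf a x + cf a y := by
  have e : a * (x * y) * a⁻¹ = (a * x * a⁻¹) * (a * y * a⁻¹) := by group
  have e2 : x * (v * y) = v * (x * y) := by rw [← mul_assoc, hxv, mul_assoc]
  rcases cf_val hv hx with ⟨h1, h2⟩ | ⟨h1, h2⟩ <;> rcases cf_val hv hy with ⟨h3, h4⟩ | ⟨h3, h4⟩ <;>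
    rw [h1, h3]
  · rw [cf_of0 (by rw [e, h4, h2])]; decide
  · rw [cf_of1 hv (by rw [e, h4, h2, e2])]; decide
  · rw [cf_of1 hv (by rw [e, h4, h2, mul_assoc])]; decide
  · rw [cf_of0 (by rw [e, h4, h2, mul_assoc, e2, ← mul_assoc, hvv, one_mul])]; decide

section pts

variable [Finite G] {T V₁ V₂ L₁ L₂ : Subgroup G} {v₁ v₂ s : G} (h : One T V₁ V₂ L₁ L₂ v₁ v₂ s)
  (o : GOrth (cz v₂) (nc v₂ {v₁}) v₁ v₂)
include h o

/-- `M` is transitive on the points of `v₁^⊥`, `v₁^⊥ ≤ N₂`. -/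
theorem trans_pt {x : G} (hx : x ∈ V₁) (hx1 : x ≠ 1) (hxv : x ≠ v₁) {a : G}
    (ha : a ∈ (sy_of o).pp o.r_mem) (ha' : a ∉ yr (sy_of o) o.r_mem) :
    ∃ g ∈ cz v₂ ⊓ cz v₁, g * x * g⁻¹ * a ∈ yr (sy_of o) o.r_mem := by
  have hs := sy_perp (sy_of o) o.r_mem
  obtain ⟨hxp, hxy⟩ := pt_mem h o h.toBase hx hx1 hxv
  obtain ⟨z, hz, e⟩ := hs.sep1 hxp hxy
  obtain ⟨k, hk, -, hkz⟩ := hs.tr hxp hz e
  refine hs.norm_trans le_rfl (fun m hm k hk => mul_mem (mul_mem hm hk) (inv_mem hm)) hxp hxy hk (fun e2 => ?_)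
    ha ha'
  have hkx := hs.nor k hk x hxp
  have h1 := hs.eqv_trans hkx (hs.eqv_symm hkx hxp e2) hkz
  have h2 := hs.zero _ h1 z hz
  rw [hs.add_left hxp hz hz, e, hs.self z hz] at h2
  exact absurd h2 (by decide)

/-- `⟨v₁, v₂⟩` centralises `T`. -/
theorem yr_T {y t : G} (hy : y ∈ yr (sy_of o) o.r_mem) (ht : t ∈ T) : y * t = t * y := by
  rcases mem_yr' h o hy with rfl | rfl | rfl | rfl
  · rw [one_mul, mul_one]
  · exact (h.Tv2 t ht).symm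
  · exact (h.Tv1 t ht).symm
  · rw [← mul_assoc, h.Tv1 t ht, mul_assoc, ← h.Tv2 t ht, mul_assoc]

theorem yr_Kk : yr (sy_of o) o.r_mem ≤ Kk v₁ := by
  have h2 : v₂ ∈ Kk v₁ := ⟨h.T_le (h.V2T h.vV2), fun x hx => by
    rw [← h.Tv2 x (h.Q_le hx)]
    have e : x * v₂ * v₂⁻¹ * x⁻¹ = 1 := by group
    rw [e]
    exact one_mem _⟩
  have h1 : v₁ ∈ Kk v₁ := h.V1_le_Kk h.vV1
  intro y hy
  rcases mem_yr' h o hy with rfl | rfl | rfl | rfl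
  · exact one_mem _
  · exact h2
  · exact h1
  · exact mul_mem h1 h2

/-- `v₁^⊥ ≤ Kk v₁` -/
theorem A_le : (sy_of o).pp o.r_mem ≤ Kk v₁ := by
  intro a ha
  by_cases ha' : a ∈ yr (sy_of o) o.r_mem
  · exact yr_Kk h o ha'
  obtain ⟨x, hx, hx1, hxv⟩ := exists_x h
  obtain ⟨g, hg, e⟩ := trans_pt h o hx hx1 hxv ha ha'
  have h1 := (mem_normalizer_iff.1 (le_normalizer_Kk v₁ hg.2) x).1 (h.V1_le_Kk hx)
  have h2 := mul_mem (inv_mem h1) (yr_Kk h o e)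
  rwa [inv_mul_cancel_left] at h2

theorem A_le_Q : (sy_of o).pp o.r_mem ≤ ZN.o2 (cz v₁) := (A_le h o).trans h.Kk_le_Q

/-- `C_{A₂}(Q₁) ≤ ⟨v₁, v₂⟩` -/
theorem ker_le {a : G} (ha : a ∈ (sy_of o).pp o.r_mem) (hc : ∀ x ∈ ZN.o2 (cz v₁), a * x = x * a) :
    a ∈ yr (sy_of o) o.r_mem := by
  by_contra ha'
  obtain ⟨w, hw, x, hx, hne⟩ := h.k1
  have hx1 : x ≠ 1 := fun e => hne (by rw [e, one_mul, mul_one])
  have hxv : x ≠ v₁ := fun e => hne (by rw [e]; exact mem_cz.1 hw.1)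
  obtain ⟨g, hg, e⟩ := trans_pt h o hx hx1 hxv ha ha'
  have hwQ := h.Kk_le_Q hw
  have hgw : g * w * g⁻¹ ∈ ZN.o2 (cz v₁) := (mem_normalizer_iff.1 (le_normalizer_o2 _ hg.2) w).1 hwQ
  have h1 := yr_T h o e (h.Q_le hgw)
  have h2 := hc _ hgw
  -- `x` commutes with `w`
  apply hne
  have h3 : g * x * g⁻¹ * (g * w * g⁻¹) = g * w * g⁻¹ * (g * x * g⁻¹) := by
    apply mul_right_cancel (b := a)
    calc g * x * g⁻¹ * (g * w * g⁻¹) * a = g * x * g⁻¹ * (g * w * g⁻¹ * a) := by group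
      _ = g * x * g⁻¹ * a * (g * w * g⁻¹) := by rw [← h2]; group
      _ = g * w * g⁻¹ * (g * x * g⁻¹) * a := by rw [h1]; group
  have e1 : g * x * g⁻¹ * (g * w * g⁻¹) = g * (x * w) * g⁻¹ := by group
  have e2 : g * w * g⁻¹ * (g * x * g⁻¹) = g * (w * x) * g⁻¹ := by group
  rw [e1, e2] at h3
  exact (mul_left_cancel (mul_right_cancel h3)).symm

theorem card_yr : Nat.card (yr (sy_of o) o.r_mem) ≤ 4 := by
  classical
  have h5 : ((yr (sy_of o) o.r_mem : Subgroup G) : Set G) ⊆ (({1, v₂, v₁, v₁ * v₂} : Finset G) : Set G) := by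
    intro t ht
    simpa using mem_yr' h o ht
  have h6 := Set.ncard_le_ncard h5 (Finset.finite_toSet _)
  rw [Set.ncard_coe_finset] at h6
  have h7 : Nat.card (yr (sy_of o) o.r_mem) = ((yr (sy_of o) o.r_mem : Subgroup G) : Set G).ncard :=
    Nat.card_coe_set_eq _
  have h9 : ({1, v₂, v₁, v₁ * v₂} : Finset G).card ≤ 4 := Finset.card_le_four
  omega

theorem card_pp (hN : Nat.card (nc v₂ {v₁}) = 128) : Nat.card ((sy_of o).pp o.r_mem) = 64 := by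
  have hs := sy_of o
  obtain ⟨z, hz, e⟩ := hs.sep1 o.r_mem fun e => by
    rcases (mem_zp2 h.vq2).1 e with e | e
    · exact h.v1 e
    · exact h.ne e
  have a1 : Nat.card (nc v₂ {v₁}) = 2 * Nat.card ((sy_of o).pp o.r_mem) :=
    card_ker (f := Bg (cz v₂) v₁ v₁) (fun x hx y hy => o.add v₁ o.r_mem x hx y hy) (fun x => Iff.rfl) ⟨z, hz, e⟩
  omega

/-- `[Q₁, A₂] ≤ ⟨v₁⟩` -/
theorem A_conj {a x : G} (ha : a ∈ (sy_of o).pp o.r_mem) (hx : x ∈ ZN.o2 (cz v₁)) :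
    a * x * a⁻¹ = x ∨ a * x * a⁻¹ = v₁ * x := Kk_conj h.vq1 (A_le h o ha) hx

theorem dualQ {K : Subgroup G} (hK : K ≤ ZN.o2 (cz v₁))
    (hc : ∀ z ∈ K, ∀ a ∈ (sy_of o).pp o.r_mem, a * z = z * a) :
    Nat.card ((sy_of o).pp o.r_mem) * Nat.card K ≤ Nat.card (yr (sy_of o) o.r_mem) * Nat.card (ZN.o2 (cz v₁)) := by
  refine dual_card (f := cf) _ rfl (fun a ha b hb x hx => ?_) (fun a ha x hx y hy => ?_)
    (fun a ha h0 => ker_le h o ha fun x hx => cf_zero.1 (h0 x hx)) hK (fun z hz a ha => cf_zero.2 (hc z hz a ha))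
  · exact cf_add_left h.v1 h.vq1 (mem_cz.1 (A_le h o ha).1) (A_conj h o ha hx) (A_conj h o hb hx)
  · exact cf_add_right h.v1 h.vq1 (mem_cz.1 (o2_le _ hx)) (A_conj h o ha hx) (A_conj h o ha hy)

end pts

section main

variable [Finite G] {T V₁ V₂ L₁ L₂ : Subgroup G} {v₁ v₂ s : G}

/-- **(a)** -/
theorem card_Q (h : One T V₁ V₂ L₁ L₂ v₁ v₂ s) (hI : ∃ x ∈ nc v₁ {v₂}, ∃ y ∈ nc v₂ {v₁}, x * y ≠ y * x) :
    2 ^ 15 ≤ Nat.card (ZN.o2 (cz v₁)) := by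
  have o := h.symm.orth (One.hI_symm hI)
  have hN1 := card_N1 h hI
  have hN2 := card_N1 h.symm (One.hI_symm hI)
  have hA := card_pp h o hN2
  have hY := card_yr h o
  have hAQ := A_le_Q h o
  -- the intersection
  have h1 : nc v₁ {v₂} ⊓ (sy_of o).pp o.r_mem ≤ yr (sy_of o) o.r_mem := fun a ha =>
    ker_le h o ha.2 fun x hx => (h.Q_N1 hx ha.1).symm
  have h2 := Subgroup.card_le_of_le h1
  have h3 := card_sup (nc v₁ {v₂}) ((sy_of o).pp o.r_mem)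
  have h4 := dualQ h o (K := nc v₁ {v₂} ⊔ (sy_of o).pp o.r_mem) (sup_le h.N1_le_Q hAQ) (by
    have h5 : nc v₁ {v₂} ⊔ (sy_of o).pp o.r_mem ≤ centralizer ((sy_of o).pp o.r_mem : Set G) := by
      refine sup_le (fun x hx => mem_centralizer_iff.2 fun a ha => h.Q_N1 (hAQ ha) hx)
        (fun x hx => mem_centralizer_iff.2 fun a ha => h.symm.N1_comm ha.1 hx.1)
    exact fun z hz a ha => mem_centralizer_iff.1 (h5 hz) a ha)
  rw [hN1, hA] at h3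
  rw [hA] at h4
  have h6 : Nat.card (nc v₁ {v₂} ⊓ (sy_of o).pp o.r_mem : Subgroup G) *
      Nat.card (nc v₁ {v₂} ⊔ (sy_of o).pp o.r_mem : Subgroup G) ≤
      4 * Nat.card (nc v₁ {v₂} ⊔ (sy_of o).pp o.r_mem : Subgroup G) := Nat.mul_le_mul_right _ (h2.trans hY)
  have h7 : Nat.card (yr (sy_of o) o.r_mem) * Nat.card (ZN.o2 (cz v₁)) ≤ 4 * Nat.card (ZN.o2 (cz v₁)) :=
    Nat.mul_le_mul_right _ hY
  omega

/-- **(b)** -/
theorem card_QQ (h : One T V₁ V₂ L₁ L₂ v₁ v₂ s) (hI : ∃ x ∈ nc v₁ {v₂}, ∃ y ∈ nc v₂ {v₁}, x * y ≠ y * x) :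
    2 ^ 20 ≤ Nat.card (ZN.o2 (cz v₁) ⊔ ZN.o2 (cz v₂) : Subgroup G) := by
  have o := h.orth hI
  have hN1 := card_N1 h hI
  have hQ1 := card_Q h hI
  have hA := card_pp h.symm o hN1
  have hY := card_yr h.symm o
  -- `K = C_{Q₂}(A₁)`
  set K : Subgroup G := ZN.o2 (cz v₂) ⊓ centralizer ((sy_of o).pp o.r_mem : Set G) with hK
  have h1 := dualQ h.symm o (K := K) inf_le_left (fun z hz a ha => mem_centralizer_iff.1 hz.2 a ha)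
  have h2 : 2 * Nat.card (ZN.o2 (cz v₁) ⊓ ZN.o2 (cz v₂) : Subgroup G) ≤ Nat.card K := by
    refine two_mul_card_le (fun x hx => ⟨hx.2, mem_centralizer_iff.2 fun a ha => (h.Q_N1 hx.1 ha.1).symm⟩) ?_
    obtain ⟨x, hx, y, hy, hne⟩ := hI
    exact ⟨y, ⟨h.symm.N1_le_Q hy, mem_centralizer_iff.2 fun a ha =>
      h.symm.Q_N1 (A_le_Q h.symm o ha) hy⟩, fun e => hne (h.Q_N1 e.1 hx).symm⟩
  have h3 := card_sup (ZN.o2 (cz v₁)) (ZN.o2 (cz v₂))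
  rw [hA] at h1
  have h4 : Nat.card (yr (sy_of o) o.r_mem) * Nat.card (ZN.o2 (cz v₂)) ≤ 4 * Nat.card (ZN.o2 (cz v₂)) :=
    Nat.mul_le_mul_right _ hY
  have h5 : 32 * Nat.card (ZN.o2 (cz v₁) ⊓ ZN.o2 (cz v₂) : Subgroup G) ≤ Nat.card (ZN.o2 (cz v₂)) := by omega
  have h6 : 0 < Nat.card (ZN.o2 (cz v₁) ⊓ ZN.o2 (cz v₂) : Subgroup G) := Nat.card_pos
  have h7 : 2 ^ 15 * (32 * Nat.card (ZN.o2 (cz v₁) ⊓ ZN.o2 (cz v₂) : Subgroup G)) ≤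
      Nat.card (ZN.o2 (cz v₁)) * Nat.card (ZN.o2 (cz v₂)) := Nat.mul_le_mul hQ1 h5
  have h8 : Nat.card (ZN.o2 (cz v₁) ⊓ ZN.o2 (cz v₂) : Subgroup G) * 2 ^ 20 ≤
      Nat.card (ZN.o2 (cz v₁) ⊓ ZN.o2 (cz v₂) : Subgroup G) * Nat.card (ZN.o2 (cz v₁) ⊔ ZN.o2 (cz v₂) : Subgroup G) := by
    calc _ = 2 ^ 15 * (32 * Nat.card (ZN.o2 (cz v₁) ⊓ ZN.o2 (cz v₂) : Subgroup G)) := by ring
      _ ≤ _ := h7.trans h3
  exact Nat.le_of_mul_le_mul_left h8 h6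

end main

/-! ### The group `Ta` -/

/-- `{t ∈ T : [R, t] ≤ ⟨c⟩}` -/
def Ta (T R : Subgroup G) (c : G) (hT : ∀ t ∈ T, t * c = c * t) : Subgroup G where
  carrier := {t | t ∈ T ∧ ∀ x ∈ R, t * x * t⁻¹ * x⁻¹ ∈ zpowers c}
  one_mem' := ⟨one_mem _, fun x _ => by
    have e : (1 : G) * x * 1⁻¹ * x⁻¹ = 1 := by group
    rw [e]; exact one_mem _⟩
  mul_mem' := by
    rintro a b ⟨ha, ha'⟩ ⟨hb, hb'⟩
    refine ⟨mul_mem ha hb, fun x hx => ?_⟩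
    have h1 : ∀ y ∈ zpowers c, a * y * a⁻¹ = y := by
      rintro _ ⟨k, rfl⟩
      have h2 : Commute a c := hT a ha
      change a * c ^ k * a⁻¹ = c ^ k
      rw [(h2.zpow_right k).eq, mul_inv_cancel_right]
    have e : a * b * x * (a * b)⁻¹ * x⁻¹ = (a * (b * x * b⁻¹ * x⁻¹) * a⁻¹) * (a * x * a⁻¹ * x⁻¹) := by
      group
    rw [e, h1 _ (hb' x hx)]
    exact mul_mem (hb' x hx) (ha' x hx)
  inv_mem' := by
    rintro a ⟨ha, ha'⟩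
    refine ⟨inv_mem ha, fun x hx => ?_⟩
    have h1 : ∀ y ∈ zpowers c, a⁻¹ * y * a = y := by
      rintro _ ⟨k, rfl⟩
      have h2 : Commute a c := hT a ha
      change a⁻¹ * c ^ k * a = c ^ k
      rw [mul_assoc, ← (h2.zpow_right k).eq, inv_mul_cancel_left]
    have e : a⁻¹ * x * a⁻¹⁻¹ * x⁻¹ = a⁻¹ * (a * x * a⁻¹ * x⁻¹)⁻¹ * a := by group
    rw [e, h1 _ (inv_mem (ha' x hx))]
    exact inv_mem (ha' x hx)

theorem mem_Ta {T R : Subgroup G} {c : G} {hT : ∀ t ∈ T, t * c = c * t} {t : G} :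
    t ∈ Ta T R c hT ↔ t ∈ T ∧ ∀ x ∈ R, t * x * t⁻¹ * x⁻¹ ∈ zpowers c := Iff.rfl

section rk

variable [Finite G] {C N R : Subgroup G} {r c : G} (h : Rk C N R r c) (h4 : 4 < Nat.card R)
include h

/-- `[A, t] ≤ R^⊥` for `t ∈ Ta` -/
theorem perpTa {t n : G} (ht : t ∈ C) (ht' : ∀ x ∈ R, t * x * t⁻¹ * x⁻¹ ∈ zpowers r) (hn : n ∈ N)
    (hrn : Bg C r r n = 0) : ∀ x ∈ R, Bg C r (n⁻¹ * (t⁻¹ * n * t)) x = 0 := by
  intro x hx
  have hs := sy_of h.o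
  have hxN := h.RN hx
  have hrr := h.o.sq r h.o.r_mem
  have htn : t⁻¹ * n * t ∈ N := hs.nor' ht hn
  rw [h.o.add_left (inv_mem hn) htn hxN, hs.iv hn, ← hs.inv_right ht hn hxN]
  have e : t * x * t⁻¹ = (t * x * t⁻¹ * x⁻¹) * x := by group
  rcases (mem_zp2 hrr).1 (ht' x hx) with h1 | h1
  · rw [e, h1, one_mul, z2_self]
  · rw [e, h1, h.o.add n hn r h.o.r_mem x hxN, h.o.comm n hn r h.o.r_mem, hrn, zero_add, z2_self]

include h4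

/-- `R^⊥` is totally isotropic. -/
theorem iso_perp {w w' : G} (hw : w ∈ N) (hw' : w' ∈ N) (hp : ∀ x ∈ R, Bg C r w x = 0)
    (hp' : ∀ x ∈ R, Bg C r w' x = 0) : Bg C r w w' = 0 := by
  rcases perp_of_rk h h4 hw' hp' with h1 | h1
  · exact hp w' h1
  · have h2 := hp _ h1
    rw [h.o.add w hw w' hw' c h.o.c_mem, h.o.comm w hw c h.o.c_mem, h.o.Bc w hw, add_zero] at h2
    exact h2

end rk

section last

variable [Finite G] {T V₁ V₂ L₁ L₂ : Subgroup G} {v₁ v₂ s : G}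

/-- the reflections `τ_y`, `y ∈ R^#`, lie in `T` -/
theorem tauR (h : One T V₁ V₂ L₁ L₂ v₁ v₂ s) (hnl : NonLoc (cz v₁) (cz v₂))
    (hI : ∃ x ∈ nc v₁ {v₂}, ∃ y ∈ nc v₂ {v₁}, x * y ≠ y * x) {v' w l : G} (hl : l ∈ L₁)
    (P : Plane V₁ V₂ v₁ v₂ v' w l) {y : G} (hy : y ∈ RR v₁ v₂ l) (hy1 : y ≠ 1) :
    ∃ g ∈ Ta T (RR v₁ v₂ l) v₂ h.Tv2, ∀ n ∈ nc v₁ {v₂}, (Bg (cz v₁) v₂ y n = 0 ∧ g * n * g⁻¹ = n) ∨
      (Bg (cz v₁) v₂ y n = 1 ∧ g * n * g⁻¹ = n * (y * v₁)) := by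
  obtain ⟨g, hg, hgn⟩ := P.rk.o.refl y (P.rk.RN hy) hy1 (Q_zero_rk P.rk P.four hy)
  have fR : ∀ x ∈ RR v₁ v₂ l, g * x * g⁻¹ = x := by
    intro x hx
    rcases hgn x (P.rk.RN hx) with ⟨-, h1⟩ | ⟨h1, -⟩
    · exact h1
    · rw [P.rk.iso y hy x hx] at h1; exact absurd h1 (by decide)
  have hg2 : g ∈ cz v₂ := mem_cz.2 (mul_inv_eq_iff_eq_mul.1 (fR v₂ P.rk.rR))
  have hgR : g ∈ normalizer (RR v₁ v₂ l : Set G) := by
    apply Cfsg.Agent.MinSimple.VModule.mem_normalizer_of_map_le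
    rintro _ ⟨t, ht, rfl⟩
    show g * t * g⁻¹ ∈ RR v₁ v₂ l
    rw [fR t ht]
    exact ht
  have hgV : g ∈ normalizer (V₂ : Set G) := by
    apply Cfsg.Agent.MinSimple.VModule.mem_normalizer_of_map_le
    rintro _ ⟨t, ht, rfl⟩
    show g * t * g⁻¹ ∈ V₂
    rw [fR t (P.V2R ht)]
    exact ht
  have hgT : g ∈ T := by
    rw [mem_T h hnl hI hl P]
    exact ⟨⟨⟨hg, hg2⟩, nC h hI P hg hgR⟩, hgV⟩
  exact ⟨g, ⟨hgT, fun x hx => by rw [fR x hx, mul_inv_cancel]; exact one_mem _⟩, hgn⟩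

/-- `Ta ≠ T` -/
theorem Ta_ne (h : One T V₁ V₂ L₁ L₂ v₁ v₂ s) (hnl : NonLoc (cz v₁) (cz v₂))
    (hI : ∃ x ∈ nc v₁ {v₂}, ∃ y ∈ nc v₂ {v₁}, x * y ≠ y * x) {v' w l : G} (hl : l ∈ L₁)
    (P : Plane V₁ V₂ v₁ v₂ v' w l) {u x : G} (hu : u ∈ V₂) (hu1 : u ≠ 1) (huv : u ≠ v₂)
    (hx : x ∈ RR v₁ v₂ l) (hx2 : x ∉ V₂) : ∃ m ∈ T, m ∉ Ta T (RR v₁ v₂ l) v₂ h.Tv2 := by
  obtain ⟨m, hm, hmR, hmu, hmx, -⟩ := siegel' P.rk P.four (x := x) (y := u) hx (P.V2R hu)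
    (fun e => hx2 (e ▸ one_mem _)) (fun e => hx2 (e ▸ h.vV2)) (fun e => hx2 (e ▸ hu)) (fun e => hx2 (by
      have e2 : x = u * v₂⁻¹ := by rw [← e]; group
      rw [e2]
      exact mul_mem hu (inv_mem h.vV2)))
  have hm2 : m * v₂ * m⁻¹ = v₂ := by rw [mem_cz.1 hm.2, mul_inv_cancel_right]
  refine ⟨m, ?_, fun e => ?_⟩
  · rw [mem_T h hnl hI hl P]
    refine ⟨⟨⟨hm.1, hm.2⟩, nC h hI P hm.1 hmR⟩, ?_⟩
    apply Cfsg.Agent.MinSimple.VModule.mem_normalizer_of_map_le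
    rintro _ ⟨t, ht, rfl⟩
    show m * t * m⁻¹ ∈ V₂
    rcases h.toBase.symm.mem_V1 ht hu hu1 huv with rfl | rfl | rfl | rfl
    · rw [mul_one, mul_inv_cancel]; exact one_mem _
    · rw [hm2]; exact h.vV2
    · rw [hmu]; exact hu
    · have e3 : m * (v₂ * u) * m⁻¹ = m * v₂ * m⁻¹ * (m * u * m⁻¹) := by group
      rw [e3, hm2, hmu]
      exact mul_mem h.vV2 hu
  · have h1 := e.2 x hx
    have h2 : x * u * x⁻¹ = u := by
      rw [(sy_of P.rk.o).mc (P.rk.RN hx) (P.rk.RN (P.V2R hu)), mul_inv_cancel_right]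
    rw [hmx, h2] at h1
    rcases (mem_zp2 h.vq2).1 h1 with e | e
    · exact hu1 e
    · exact huv e

/-- **`|T| ≥ 2²⁴`** -/
theorem card_T (h : One T V₁ V₂ L₁ L₂ v₁ v₂ s) (hnl : NonLoc (cz v₁) (cz v₂))
    (hI : ∃ x ∈ nc v₁ {v₂}, ∃ y ∈ nc v₂ {v₁}, x * y ≠ y * x) : 2 ^ 24 ≤ Nat.card T := by
  obtain ⟨v', hv', hv'1, hv'v⟩ := exists_x h
  obtain ⟨w, l, hl, P⟩ := exists_plane h hI hv' hv'1 hv'v
  have o := P.rk.o
  have hs := sy_of o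
  have hrk := P.rk
  have h4 := P.four
  set R : Subgroup G := RR v₁ v₂ l with hR
  have hRN : R ≤ nc v₁ {v₂} := P.rk.RN
  -- the basis of `R`
  obtain ⟨u, hu, hu1, huv⟩ := exists_x h.symm
  obtain ⟨x, hx, hx2⟩ : ∃ x ∈ R, x ∉ V₂ := by
    by_contra hcon
    push Not at hcon
    have h5 := Subgroup.card_le_of_le (show R ≤ V₂ from hcon)
    rw [h.card2] at h5
    have h6 : 4 < Nat.card R := P.four
    omega
  have huR : u ∈ R := P.V2R hu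
  have huN := hRN huR
  have hxN := hRN hx
  have hvR : v₂ ∈ R := P.rk.rR
  have hvN := hRN hvR
  have eqv : ∀ t z : G, z ∈ nc v₁ {v₂} → t * z = 1 → t = z := fun t z hz e => by
    calc t = t * (z * z) := by rw [o.sq z hz, mul_one]
      _ = z := by rw [← mul_assoc, e, one_mul]
  have nz : ∀ t ∈ R, t ≠ 1 → t ∉ zpowers v₁ := fun t ht ht1 => P.rk.not_zp ht ht1
  have n1 : x ∉ zpowers v₁ := nz x hx fun e => hx2 (e ▸ one_mem _)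
  have n2 : x * u ∉ zpowers v₁ := nz _ (mul_mem hx huR) fun e => hx2 (eqv _ _ huN e ▸ hu)
  have n3 : x * v₂ ∉ zpowers v₁ := nz _ (mul_mem hx hvR) fun e => hx2 (eqv _ _ hvN e ▸ h.vV2)
  have n4 : x * u * v₂ ∉ zpowers v₁ := nz _ (mul_mem (mul_mem hx huR) hvR) fun e => hx2 (by
    have e2 : x = v₂⁻¹⁻¹ * u⁻¹ := by
      have := eqv _ _ hvN e
      rw [inv_inv, ← this]
      group
    rw [e2, inv_inv]
    exact mul_mem h.vV2 (inv_mem hu))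
  have n5 : u ∉ zpowers v₁ := nz u huR hu1
  have n6 : u * v₂ ∉ zpowers v₁ := nz _ (mul_mem huR hvR) fun e => huv (eqv _ _ hvN e)
  have n7 : v₂ ∉ zpowers v₁ := nz v₂ hvR h.v2
  -- the dual basis
  obtain ⟨a, ha, xa, ua, va⟩ := hs.val3 hxN huN hvN n1 n5 n7 n2 n3 n6 n4 0 1 0
  obtain ⟨b, hb, xb, ub, vb⟩ := hs.val3 hxN huN hvN n1 n5 n7 n2 n3 n6 n4 1 0 0
  set A := Ta T R v₂ h.Tv2 with hA
  have hAT : A ≤ T := fun t ht => ht.1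
  -- the functions `f`
  set F : G → G → G → ZMod 2 := fun n n' t => Bg (cz v₁) v₂ n (n'⁻¹ * (t * n' * t⁻¹)) with hF
  have hTC : ∀ t ∈ A, t ∈ cz v₁ := fun t ht => h.T_le ht.1
  have wN : ∀ t ∈ A, ∀ n ∈ nc v₁ {v₂}, n⁻¹ * (t * n * t⁻¹) ∈ nc v₁ {v₂} := fun t ht n hn =>
    mul_mem (inv_mem hn) (o.nor t (hTC t ht) n hn)
  have wp : ∀ t ∈ A, ∀ n ∈ nc v₁ {v₂}, Bg (cz v₁) v₂ v₂ n = 0 →
      ∀ z ∈ R, Bg (cz v₁) v₂ (n⁻¹ * (t * n * t⁻¹)) z = 0 := by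
    intro t ht n hn hvn z hz
    have ht' := inv_mem ht
    have := perpTa hrk (t := t⁻¹) (hTC _ ht') (fun y hy => ht'.2 y hy) hn hvn z hz
    rwa [inv_inv] at this
  have hadd : ∀ n ∈ nc v₁ {v₂}, ∀ n' ∈ nc v₁ {v₂}, Bg (cz v₁) v₂ v₂ n = 0 → Bg (cz v₁) v₂ v₂ n' = 0 →
      ∀ t ∈ A, ∀ t' ∈ A, F n n' (t * t') = F n n' t + F n n' t' := by
    intro n hn n' hn' hvn hvn' t ht t' ht'
    have e : n'⁻¹ * (t * t' * n' * (t * t')⁻¹) =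
        (n'⁻¹ * (t * n' * t⁻¹)) * (t * (n'⁻¹ * (t' * n' * t'⁻¹)) * t⁻¹) := by group
    have hw := wN t' ht' n' hn'
    have hw1 := wN t ht n' hn'
    have hti := inv_mem ht
    have hw2 := wN _ hti n hn
    have e2 : t⁻¹ * n * t = n * (n⁻¹ * (t⁻¹ * n * t⁻¹⁻¹)) := by group
    show Bg (cz v₁) v₂ n (n'⁻¹ * (t * t' * n' * (t * t')⁻¹)) = _
    rw [e, o.add n hn _ hw1 _ (o.nor t (hTC t ht) _ hw), hs.inv_right (hTC t ht) hn hw, e2,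
      o.add_left hn hw2 hw, iso_perp hrk h4 hw2 hw (wp _ hti n hn hvn) (wp t' ht' n' hn' hvn'), add_zero]
  -- `Q₁`, `Q₂`
  have hQ1 : ∀ n ∈ nc v₁ {v₂}, ∀ n' ∈ nc v₁ {v₂}, ∀ t ∈ ZN.o2 (cz v₁), F n n' t = 0 := by
    intro n hn n' hn' t ht
    show Bg (cz v₁) v₂ n (n'⁻¹ * (t * n' * t⁻¹)) = 0
    rw [h.Q_N1 ht hn', mul_inv_cancel_right, inv_mul_cancel]
    exact GOrth.Bone
  have hc2 : ∀ n ∈ nc v₁ {v₂}, Bg (cz v₁) v₂ v₂ n = 0 → ∀ t ∈ ZN.o2 (cz v₂),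
      t * n * t⁻¹ = n ∨ t * n * t⁻¹ = n * v₂ := by
    intro n hn hvn t ht
    have hnt : t * v₂ = v₂ * t := mem_cz.1 (o2_le _ ht)
    have hnv : n * v₂ = v₂ * n := hs.mc hn hvN
    rcases A_conj h.symm o (a := n) ⟨hn, hvn⟩ ht with h5 | h5
    · left
      have h6 : n * t = t * n := mul_inv_eq_iff_eq_mul.1 h5
      rw [← h6, mul_inv_cancel_right]
    · right
      have h6 : n * t = v₂ * t * n := mul_inv_eq_iff_eq_mul.1 h5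
      have h7 : t * n = n * v₂ * t := by
        calc t * n = v₂ * v₂ * t * n := by rw [h.vq2, one_mul]
          _ = v₂ * (v₂ * t * n) := by group
          _ = v₂ * n * t := by rw [← h6]; group
          _ = n * v₂ * t := by rw [hnv]
      rw [h7, mul_inv_cancel_right]
  have hQ2 : ∀ n ∈ nc v₁ {v₂}, ∀ n' ∈ nc v₁ {v₂}, Bg (cz v₁) v₂ v₂ n = 0 → Bg (cz v₁) v₂ v₂ n' = 0 →
      ∀ t ∈ ZN.o2 (cz v₂), F n n' t = 0 := by
    intro n hn n' hn' hvn hvn' t ht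
    show Bg (cz v₁) v₂ n (n'⁻¹ * (t * n' * t⁻¹)) = 0
    rcases hc2 n' hn' hvn' t ht with h5 | h5
    · rw [h5, inv_mul_cancel]; exact GOrth.Bone
    · rw [h5, inv_mul_cancel_left, o.comm n hn v₂ hvN, hvn]
  have hQA : ZN.o2 (cz v₁) ⊔ ZN.o2 (cz v₂) ≤ A := by
    refine sup_le (fun t ht => ⟨h.Q_le ht, fun z hz => ?_⟩) (fun t ht => ⟨h.symm.Q_le ht, fun z hz => ?_⟩)
    · rw [h.Q_N1 ht (hRN hz), mul_inv_cancel_right, mul_inv_cancel]; exact one_mem _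
    · rcases hc2 z (hRN hz) (P.rk.iso v₂ hvR z hz) t ht with h5 | h5
      · rw [h5, mul_inv_cancel]; exact one_mem _
      · rw [h5, hs.mc (hRN hz) hvN, mul_inv_cancel_right]; exact mem_zpowers _
  -- the values on the reflections
  have hval : ∀ y ∈ R, y ≠ 1 → ∃ g ∈ A, ∀ n ∈ nc v₁ {v₂}, ∀ n' ∈ nc v₁ {v₂},
      F n n' g = Bg (cz v₁) v₂ y n * Bg (cz v₁) v₂ y n' := by
    intro y hy hy1
    obtain ⟨g, hg, hgn⟩ := tauR h hnl hI hl P hy hy1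
    refine ⟨g, hg, fun n hn n' hn' => ?_⟩
    have hyN := hRN hy
    show Bg (cz v₁) v₂ n (n'⁻¹ * (g * n' * g⁻¹)) = _
    rcases hgn n' hn' with ⟨h5, h6⟩ | ⟨h5, h6⟩
    · rw [h6, inv_mul_cancel, h5, mul_zero]; exact GOrth.Bone
    · rw [h6, inv_mul_cancel_left, h5, mul_one, o.add n hn y hyN v₁ o.c_mem, o.comm n hn v₁ o.c_mem, o.Bc n hn,
        add_zero, o.comm n hn y hyN]
  obtain ⟨g₁, hg₁, hf₁⟩ := hval u huR hu1
  obtain ⟨g₂, hg₂, hf₂⟩ := hval x hx fun e => hx2 (e ▸ one_mem _)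
  obtain ⟨g₃, hg₃, hf₃⟩ := hval (x * u) (mul_mem hx huR) fun e => hx2 (eqv _ _ huN e ▸ hu)
  have xua : Bg (cz v₁) v₂ (x * u) a = 1 := by rw [o.add_left hxN huN ha, xa, ua]; decide
  have xub : Bg (cz v₁) v₂ (x * u) b = 1 := by rw [o.add_left hxN huN hb, xb, ub]; decide
  -- `f₂₁`
  have ad1 := hadd b hb a ha vb va
  have c1 := card_ker' (A := A) (f := F b a) ad1 ⟨g₃, hg₃, by rw [hf₃ b hb a ha, xua, xub]; decide⟩
  set K₁ := ker A (F b a) ad1 with hK₁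
  have ad2 : ∀ t ∈ K₁, ∀ t' ∈ K₁, F a a (t * t') = F a a t + F a a t' := fun t ht t' ht' =>
    hadd a ha a ha va va t ht.1 t' ht'.1
  have c2 := card_ker' (A := K₁) (f := F a a) ad2 ⟨g₁, ⟨hg₁, by rw [hf₁ b hb a ha, ub, zero_mul]⟩, by
    rw [hf₁ a ha a ha, ua]; decide⟩
  set K₂ := ker K₁ (F a a) ad2 with hK₂
  have ad3 : ∀ t ∈ K₂, ∀ t' ∈ K₂, F b b (t * t') = F b b t + F b b t' := fun t ht t' ht' =>
    hadd b hb b hb vb vb t ht.1.1 t' ht'.1.1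
  have c3 := card_ker' (A := K₂) (f := F b b) ad3 ⟨g₂, ⟨⟨hg₂, by rw [hf₂ b hb a ha, xa, mul_zero]⟩, by
    rw [hf₂ a ha a ha, xa, zero_mul]⟩, by rw [hf₂ b hb b hb, xb]; decide⟩
  set K₃ := ker K₂ (F b b) ad3 with hK₃
  have hle : ZN.o2 (cz v₁) ⊔ ZN.o2 (cz v₂) ≤ K₃ := by
    refine sup_le (fun t ht => ?_) (fun t ht => ?_)
    · exact ⟨⟨⟨hQA (mem_sup_left ht), hQ1 b hb a ha t ht⟩, hQ1 a ha a ha t ht⟩, hQ1 b hb b hb t ht⟩
    · exact ⟨⟨⟨hQA (mem_sup_right ht), hQ2 b hb a ha vb va t ht⟩, hQ2 a ha a ha va va t ht⟩,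
        hQ2 b hb b hb vb vb t ht⟩
  have c4 := Subgroup.card_le_of_le hle
  have c5 := card_QQ h hI
  have c6 : 2 * Nat.card A ≤ Nat.card T := two_mul_card_le hAT (Ta_ne h hnl hI hl P hu hu1 huv hx hx2)
  omega

end last

end Cfsg.Agent.Omega.IId.Pf.Card
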