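import Cfsg.Agent.Omega.IId.Pf.Idx
import Cfsg.Agent.Omega.IId.Pf.Dual

/-!
# II.d, CASE 1, `q = 2`, case B: `16 |Q₁Q₂| ≤ |T|`

helper310.
-/

set_option autoImplicit false
set_option linter.unusedSectionVars false
set_option linter.unusedVariables false

namespace Cfsg.Agent.Omega.IId.Pf.CardC

open Cfsg.Agent.Omega.TV hiding z2
open Subgroup Cfsg Cfsg.Agent.ZN Cfsg.Agent.Omega.IId.PlaneSy Cfsg.Agent.Omega.IId.PlaneRk
open Cfsg.Agent.Omega.IId.PlaneF Cfsg.Agent.Omega.IId.PlaneOf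
open Cfsg.Agent.Omega.IId.One Cfsg.Agent.Omega.IId.SpSide
open Cfsg.Agent.Omega.IId.SpForm (two_mul_card_le)
open Cfsg.Agent.Omega.MinPar
open Cfsg.Agent.Omega.NoFF.Basic
open Cfsg.Agent.Omega.IId.Pf.Rad Cfsg.Agent.Omega.IId.Pf.Par Cfsg.Agent.Omega.IId.Pf.Idx
open Cfsg.Agent.Omega.IId.Pf.Dual
open scoped Pointwise commutatorElement

universe u

variable {G : Type u} [Group G]

section

variable {T V₁ V₂ L₁ L₂ : Subgroup G} {v₁ v₂ s : G}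

/-- `{t ∈ T | [R, t] ≤ ⟨v₂⟩}` -/
def Ta (h : One T V₁ V₂ L₁ L₂ v₁ v₂ s) (l : G) : Subgroup G where
  carrier := {t | t ∈ T ∧ ∀ x ∈ RR v₁ v₂ l, t * x * t⁻¹ = x ∨ t * x * t⁻¹ = x * v₂}
  one_mem' := ⟨one_mem _, fun x _ => Or.inl (by group)⟩
  mul_mem' := by
    rintro a b ⟨ha, ha'⟩ ⟨hb, hb'⟩
    refine ⟨mul_mem ha hb, fun x hx => ?_⟩
    have ar : a * v₂ * a⁻¹ = v₂ := by rw [h.Tv2 a ha, mul_inv_cancel_right]
    have e : a * b * x * (a * b)⁻¹ = a * (b * x * b⁻¹) * a⁻¹ := by group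
    rw [e]
    rcases hb' x hx with h1 | h1
    · rw [h1]; exact ha' x hx
    · rw [h1, show a * (x * v₂) * a⁻¹ = a * x * a⁻¹ * (a * v₂ * a⁻¹) by group, ar]
      rcases ha' x hx with h2 | h2
      · right; rw [h2]
      · left; rw [h2, mul_assoc, h.toBase.vq2, mul_one]
  inv_mem' := by
    rintro a ⟨ha, ha'⟩
    refine ⟨inv_mem ha, fun x hx => ?_⟩
    have ar : a⁻¹ * v₂ * a⁻¹⁻¹ = v₂ := by rw [h.Tv2 a⁻¹ (inv_mem ha), mul_inv_cancel_right]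
    rcases ha' x hx with h1 | h1
    · left
      nth_rewrite 1 [← h1]; group
    · right
      have e1 : x = a⁻¹ * (x * v₂) * a⁻¹⁻¹ := by rw [← h1]; group
      have e2 : a⁻¹ * (x * v₂) * a⁻¹⁻¹ = a⁻¹ * x * a⁻¹⁻¹ * (a⁻¹ * v₂ * a⁻¹⁻¹) := by group
      rw [e2, ar] at e1
      nth_rewrite 2 [e1]
      rw [mul_assoc _ v₂ v₂, h.toBase.vq2, mul_one]

end

section

variable [Finite G] {T V₁ V₂ L₁ L₂ : Subgroup G} {v₁ v₂ s : G}
  (h : One T V₁ V₂ L₁ L₂ v₁ v₂ s) (hnl : NonLoc (cz v₁) (cz v₂))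
  (hI : ∃ x ∈ nc v₁ {v₂}, ∃ y ∈ nc v₂ {v₁}, x * y ≠ y * x) {v' w l : G} (hl : l ∈ L₁)
  (P : Plane V₁ V₂ v₁ v₂ v' w l)

include h hnl hI hl P

/-- an element of `R ∖ V₂` -/
theorem exists_y : ∃ x ∈ RR v₁ v₂ l, x ∉ V₂ := by
  by_contra hcon
  push Not at hcon
  have h1 := Subgroup.card_le_of_le (show RR v₁ v₂ l ≤ V₂ from hcon)
  have c8 : Nat.card (RR v₁ v₂ l) = 8 := P.rk.card_eq P.four
  rw [c8, h.card2] at h1
  omega

/-- `[v₂^⊥, Q₂] ≤ ⟨v₂⟩` -/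
theorem comm_A {a q : G} (ha : a ∈ nc v₁ {v₂}) (hB : Bg (cz v₁) v₂ v₂ a = 0) (hq : q ∈ ZN.o2 (cz v₂)) :
    q * a * q⁻¹ = a ∨ q * a * q⁻¹ = a * v₂ := by
  have hb := h.toBase
  have o := P.rk.o
  have hs := sy_perp (sy_of o) o.r_mem
  have hqT : q ∈ T := hb.symm.Q_le hq
  have q1 : q * v₁ * q⁻¹ = v₁ := by rw [h.Tv1 q hqT, mul_inv_cancel_right]
  have q2 : q * v₂ * q⁻¹ = v₂ := by rw [h.Tv2 q hqT, mul_inv_cancel_right]
  obtain ⟨u, hu, hu1, hur⟩ := exists_x h.symm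
  obtain ⟨x, hx, hxV⟩ := exists_y h hnl hI hl P
  obtain ⟨hup, huy⟩ := pt_mem h.symm o hb.symm hu hu1 hur
  obtain ⟨k, hk, ek⟩ := move h hnl hI hl P hu hu1 hur hx (fun e => hxV (e ▸ one_mem _)) (fun e => hxV (e ▸ h.vV2))
  by_cases hay : a ∈ yr (sy_of o) o.r_mem
  · left
    rcases mem_yr' h.symm o hay with e | e | e | e
    · rw [e]; group
    · rw [e]; exact q1
    · rw [e]; exact q2
    · rw [e, show q * (v₂ * v₁) * q⁻¹ = q * v₂ * q⁻¹ * (q * v₁ * q⁻¹) by group, q1, q2]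
  · have hkM : k ∈ cz v₁ ⊓ centralizer {v₂} := ⟨hk.1.1, hk.1.2⟩
    obtain ⟨m, hm, e⟩ := hs.norm_trans (K := cz v₁ ⊓ centralizer {v₂}) le_rfl
      (fun m hm k hk => mul_mem (mul_mem hm hk) (inv_mem hm)) hup huy hkM (fun e1 => by
        rw [ek] at e1
        have hxN := P.rk.RN hx
        have huN := P.rk.RN (P.V2R hu)
        have huxR : x * u ∈ RR v₁ v₂ l := mul_mem hx (P.V2R hu)
        have hcR : v₁ ∉ RR v₁ v₂ l := P.rk.cR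
        have hrR : v₂ ∈ RR v₁ v₂ l := P.rk.rR
        have hx2 : x = x * u * u := by rw [mul_assoc, o.sq u huN, mul_one]
        rcases mem_yr' h.symm o e1 with e2 | e2 | e2 | e2
        · apply hxV
          rw [hx2, e2, one_mul]; exact hu
        · apply hcR; rwa [e2] at huxR
        · apply hxV
          rw [hx2, e2]; exact mul_mem h.vV2 hu
        · apply hcR
          have e3 := mul_mem (inv_mem hrR) huxR
          have e4 : v₂⁻¹ * (v₂ * v₁) = v₁ := by group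
          rwa [e2, e4] at e3) (q := a) ⟨ha, hB⟩ hay
    have hm2 : m ∈ cz v₂ := hm.2
    have hmr : m * v₂ * m⁻¹ = v₂ := by rw [mem_cz.1 hm2, mul_inv_cancel_right]
    have huN := P.rk.RN (P.V2R hu)
    have hmuN : m * u * m⁻¹ ∈ nc v₁ {v₂} := o.nor m hm.1 u huN
    -- `q' = m⁻¹ q m`
    have hq' : m⁻¹ * q * m ∈ ZN.o2 (cz v₂) := by
      have := (mem_normalizer_iff.1 (le_normalizer_o2 (cz v₂) (inv_mem hm2)) q).1 hq
      rwa [inv_inv] at this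
    have hq'T : m⁻¹ * q * m ∈ T := hb.symm.Q_le hq'
    have h1 := hb.symm.conj1 (hb.T_le2 hq'T) (h.T2 _ hq'T u hu) hu
    have h2 : q * (m * u * m⁻¹) * q⁻¹ = m * ((m⁻¹ * q * m) * u * (m⁻¹ * q * m)⁻¹) * m⁻¹ := by group
    have h3 : q * (m * u * m⁻¹) * q⁻¹ = m * u * m⁻¹ ∨ q * (m * u * m⁻¹) * q⁻¹ = m * u * m⁻¹ * v₂ := by
      rw [h2]
      rcases h1 with h1 | h1
      · left; rw [h1]
      · right
        rw [h1, show m * (v₂ * u) * m⁻¹ = m * v₂ * m⁻¹ * (m * u * m⁻¹) by group, hmr,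
          coN_ o o.r_mem hmuN]
    -- `a = (m u m⁻¹) y`
    have hy : ∃ y, a = m * u * m⁻¹ * y ∧ q * y * q⁻¹ = y ∧ y ∈ nc v₁ {v₂} := by
      refine ⟨m * u * m⁻¹ * a, ?_, ?_, mul_mem hmuN ha⟩
      · rw [← mul_assoc, o.sq _ hmuN, one_mul]
      · rcases mem_yr' h.symm o e with e | e | e | e
        · rw [e]; group
        · rw [e]; exact q1
        · rw [e]; exact q2
        · rw [e, show q * (v₂ * v₁) * q⁻¹ = q * v₂ * q⁻¹ * (q * v₁ * q⁻¹) by group, q1, q2]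
    obtain ⟨y, rfl, hyq, hyN⟩ := hy
    have e4 : q * (m * u * m⁻¹ * y) * q⁻¹ = q * (m * u * m⁻¹) * q⁻¹ * (q * y * q⁻¹) := by group
    rw [e4, hyq]
    rcases h3 with h3 | h3
    · left; rw [h3]
    · right; rw [h3, mul_assoc, coN_ o o.r_mem hyN, ← mul_assoc]
where
  coN_ {C N : Subgroup G} {r c : G} (o : GOrth C N r c) {x y : G} (hx : x ∈ N) (hy : y ∈ N) : x * y = y * x :=
    (sy_of o).mc hx hy

theorem mem_Ta {t : G} : t ∈ Ta h l ↔ t ∈ T ∧ ∀ x ∈ RR v₁ v₂ l, t * x * t⁻¹ = x ∨ t * x * t⁻¹ = x * v₂ :=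
  Iff.rfl

/-- `w_n(t) = n⁻¹ (t n t⁻¹) ∈ R⟨v₁⟩` for `t ∈ T_a`, `n ⊥ v₂` -/
theorem w_mem {t n : G} (ht : t ∈ Ta h l) (hn : n ∈ nc v₁ {v₂}) (hB : Bg (cz v₁) v₂ v₂ n = 0) :
    n⁻¹ * (t * n * t⁻¹) ∈ nc v₁ {v₂} ∧
      (n⁻¹ * (t * n * t⁻¹) ∈ RR v₁ v₂ l ∨ n⁻¹ * (t * n * t⁻¹) * v₁ ∈ RR v₁ v₂ l) := by
  have hb := h.toBase
  have o := P.rk.o
  have hs := sy_of o
  have ht1 : t ∈ cz v₁ := hb.T_le ht.1
  have htn := o.nor t ht1 n hn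
  have hw : n⁻¹ * (t * n * t⁻¹) ∈ nc v₁ {v₂} := mul_mem (inv_mem hn) htn
  refine ⟨hw, perp_of_rk P.rk P.four hw fun y hy => ?_⟩
  have hyN := P.rk.RN hy
  have hti := (Ta h l).inv_mem ht
  have e1 : Bg (cz v₁) v₂ (t * n * t⁻¹) y = Bg (cz v₁) v₂ n y := by
    rw [hs.inv_left ht1 hn hyN]
    have e2 : t⁻¹ * y * t = t⁻¹ * y * t⁻¹⁻¹ := by rw [inv_inv]
    rw [e2]
    rcases hti.2 y hy with h1 | h1
    · rw [h1]
    · rw [h1, o.add n hn y hyN _ o.r_mem, o.comm _ hn _ o.r_mem, hB, add_zero]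
  rw [o.add_left (inv_mem hn) htn hyN, hs.iv hn, e1, z2_self]

/-- the functional `f_{ab}(t) = B(a, [b, t])` -/
noncomputable def ff (v₁ v₂ a b t : G) : ZMod 2 := Bg (cz v₁) v₂ a (b⁻¹ * (t * b * t⁻¹))

theorem ff_add {a b : G} (ha : a ∈ nc v₁ {v₂}) (hBa : Bg (cz v₁) v₂ v₂ a = 0) (hb : b ∈ nc v₁ {v₂})
    (hBb : Bg (cz v₁) v₂ v₂ b = 0) : ∀ x ∈ Ta h l, ∀ y ∈ Ta h l,
      ff v₁ v₂ a b (x * y) = ff v₁ v₂ a b x + ff v₁ v₂ a b y := by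
  intro x hx y hy
  have o := P.rk.o
  have hx1 : x ∈ cz v₁ := h.toBase.T_le hx.1
  obtain ⟨hw, hwR⟩ := w_mem h hnl hI hl P hy hb hBb
  obtain ⟨hw', -⟩ := w_mem h hnl hI hl P hx hb hBb
  unfold ff
  have e : b⁻¹ * (x * y * b * (x * y)⁻¹) =
      b⁻¹ * (x * b * x⁻¹) * (x * (b⁻¹ * (y * b * y⁻¹)) * x⁻¹) := by group
  rw [e]
  generalize b⁻¹ * (y * b * y⁻¹) = w at hw hwR
  rw [o.add a ha _ hw' _ (o.nor x hx1 w hw)]
  congr 1
  -- `x` fixes `w` modulo `v₂`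
  have hxc : x * v₁ * x⁻¹ = v₁ := o.c_fix x hx1
  have h1 : x * w * x⁻¹ = w ∨ x * w * x⁻¹ = w * v₂ := by
    rcases hwR with h2 | h2
    · exact hx.2 w h2
    · have e3 : x * (w * v₁) * x⁻¹ = x * w * x⁻¹ * v₁ := by
        rw [show x * (w * v₁) * x⁻¹ = x * w * x⁻¹ * (x * v₁ * x⁻¹) by group, hxc]
      rcases hx.2 _ h2 with h3 | h3
      · left
        rw [e3] at h3
        exact mul_right_cancel h3
      · right
        rw [e3, mul_assoc w, h.toBase.vc, ← mul_assoc] at h3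
        exact mul_right_cancel h3
  rcases h1 with h1 | h1
  · rw [h1]
  · rw [h1, o.add a ha w hw _ o.r_mem, o.comm _ ha _ o.r_mem, hBa, add_zero]

/-- the reflections in `y v₁`, `y ∈ R` -/
theorem exists_g {y : G} (hy : y ∈ RR v₁ v₂ l) (hy1 : y ≠ 1) : ∃ g ∈ Ta h l,
    ∀ a ∈ nc v₁ {v₂}, ∀ b ∈ nc v₁ {v₂}, Bg (cz v₁) v₂ v₂ b = 0 →
      ff v₁ v₂ a b g = Bg (cz v₁) v₂ a y * Bg (cz v₁) v₂ y b := by
  have hb := h.toBase
  have o := P.rk.o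
  have hyN := P.rk.RN hy
  obtain ⟨g, hg, hgn⟩ := o.refl y hyN hy1 (Q_zero_rk P.rk P.four hy)
  have gR : ∀ t ∈ RR v₁ v₂ l, g * t * g⁻¹ = t := by
    intro t ht
    rcases hgn t (P.rk.RN ht) with ⟨-, h1⟩ | ⟨h1, -⟩
    · exact h1
    · rw [P.rk.iso y hy t ht] at h1; exact absurd h1 (by decide)
  have hg2 : g ∈ cz v₂ := mem_cz.2 (mul_inv_eq_iff_eq_mul.1 (gR _ P.rk.rR))
  have hgRn : g ∈ normalizer (RR v₁ v₂ l : Set G) := by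
    apply Cfsg.Agent.MinSimple.VModule.mem_normalizer_of_map_le
    rintro _ ⟨t, ht, rfl⟩
    show g * t * g⁻¹ ∈ RR v₁ v₂ l
    rw [gR t ht]; exact ht
  have hgV2 : g ∈ normalizer (V₂ : Set G) := by
    apply Cfsg.Agent.MinSimple.VModule.mem_normalizer_of_map_le
    rintro _ ⟨t, ht, rfl⟩
    show g * t * g⁻¹ ∈ V₂
    rw [gR t (P.V2R ht)]; exact ht
  have hgT : g ∈ T := (T_iff h hnl hI hl P).2 ⟨hg, hg2, nM h hI P hg hg2 hgRn, hgV2⟩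
  refine ⟨g, ⟨hgT, fun x hx => Or.inl (gR x hx)⟩, fun a ha b hb hBb => ?_⟩
  unfold ff
  rcases hgn b hb with ⟨h1, h2⟩ | ⟨h1, h2⟩
  · rw [h2, h1, inv_mul_cancel, mul_zero]
    exact (sy_of o).one_right ha
  · rw [h2, h1, inv_mul_cancel_left, mul_one, o.add a ha y hyN _ o.c_mem, o.comm _ ha _ o.c_mem, o.Bc a ha, add_zero]

/-- **(c)** `16 |Q₁Q₂| ≤ |T|` -/
theorem card_c' : 16 * Nat.card (ZN.o2 (cz v₁) ⊔ ZN.o2 (cz v₂) : Subgroup G) ≤ Nat.card T := by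
  have hb := h.toBase
  have o := P.rk.o
  have hs := sy_of o
  obtain ⟨u, hu, hu1, hur⟩ := exists_x h.symm
  obtain ⟨x, hx, hxV⟩ := exists_y h hnl hI hl P
  have huR := P.V2R hu
  have huN := P.rk.RN huR
  have hxN := P.rk.RN hx
  have hrR : v₂ ∈ RR v₁ v₂ l := P.rk.rR
  have hx1 : x ≠ 1 := fun e => hxV (e ▸ one_mem _)
  have hxr : x ≠ v₂ := fun e => hxV (e ▸ h.vV2)
  have sqN : ∀ a ∈ nc v₁ {v₂}, a * a = 1 := o.sq
  have eqv : ∀ t y : G, y ∈ nc v₁ {v₂} → t * y = 1 → t = y := fun t y hy e => by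
    calc t = t * (y * y) := by rw [sqN y hy, mul_one]
      _ = y := by rw [← mul_assoc, e, one_mul]
  have nz : ∀ t ∈ RR v₁ v₂ l, t ≠ 1 → t ∉ zpowers v₁ := fun t ht ht1 => P.rk.not_zp ht ht1
  -- `T_a < T`
  have hT : 2 * Nat.card (Ta h l) ≤ Nat.card T := by
    obtain ⟨m, hm, hmR, hmu, hmx, -⟩ := siegel' P.rk P.four (x := x) (y := u) hx huR hx1 hxr
      (fun e => hxV (e ▸ hu)) (fun e => hxV (by
        have e2 : x = u * v₂ := by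
          rw [← e, mul_assoc, hb.vq2, mul_one]
        rw [e2]; exact mul_mem hu h.vV2))
    have hmT : m ∈ T := (T_iff h hnl hI hl P).2 ⟨hm.1, hm.2, nM h hI P hm.1 hm.2 hmR,
      norm_V2 h hI P hu hu1 hur hm.2 (by rw [hmu]; exact hu)⟩
    refine two_mul_card_le (fun t ht => ht.1) ⟨m, hmT, fun e => ?_⟩
    rcases e.2 x hx with h1 | h1
    · rw [hmx] at h1
      exact hu1 (mul_eq_left.1 h1)
    · rw [hmx] at h1
      exact hur (mul_left_cancel h1)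
  -- the dual basis
  have hru : u * v₂ ≠ 1 := fun e => hur (eqv _ _ o.r_mem e)
  have hux : u * x ∉ V₂ := fun e => hxV (by
    have e2 : x = u⁻¹ * (u * x) := by group
    rw [e2]; exact mul_mem (inv_mem hu) e)
  obtain ⟨n₁, hn₁, a1, a2, a3⟩ := hs.sep3 huN o.r_mem hxN (nz u huR hu1) (nz _ (mul_mem huR hrR) hru)
    (nz _ (mul_mem huR hx) fun e => hux (e ▸ one_mem _))
    (nz _ (mul_mem (mul_mem huR hrR) hx) fun e => by
      have e2 := eqv _ _ hxN e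
      exact hxV (e2 ▸ mul_mem hu h.vV2))
  obtain ⟨n₂, hn₂, b1, b2, b3⟩ := hs.sep3 hxN o.r_mem huN (nz x hx hx1)
    (nz _ (mul_mem hx hrR) fun e => hxr (eqv _ _ o.r_mem e))
    (nz _ (mul_mem hx huR) fun e => hxV ((eqv _ _ huN e) ▸ hu))
    (nz _ (mul_mem (mul_mem hx hrR) huR) fun e => by
      have e2 := eqv _ _ huN e
      have e3 : x = u * v₂ := by rw [← e2, mul_assoc, hb.vq2, mul_one]
      exact hxV (e3 ▸ mul_mem hu h.vV2))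
  have c1 := a1; rw [o.comm _ huN _ hn₁] at c1
  have c3 := a3; rw [o.comm _ hxN _ hn₁] at c3
  have d1 := b1; rw [o.comm _ hxN _ hn₂] at d1
  have d3 := b3; rw [o.comm _ huN _ hn₂] at d3
  -- the kernels
  set f11 := ff v₁ v₂ n₁ n₁ with hf11
  set f22 := ff v₁ v₂ n₂ n₂ with hf22
  set f21 := ff v₁ v₂ n₂ n₁ with hf21
  have A11 := ff_add h hnl hI hl P hn₁ a2 hn₁ a2
  have A22 := ff_add h hnl hI hl P hn₂ b2 hn₂ b2
  have A21 := ff_add h hnl hI hl P hn₂ b2 hn₁ a2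
  rw [← hf11] at A11
  rw [← hf22] at A22
  rw [← hf21] at A21
  obtain ⟨gu, hgu, eu⟩ := exists_g h hnl hI hl P huR hu1
  obtain ⟨gx, hgx, ex⟩ := exists_g h hnl hI hl P hx hx1
  obtain ⟨gz, hgz, ez⟩ := exists_g h hnl hI hl P (mul_mem huR hx) (fun e => hux (e ▸ one_mem _))
  have u11 : f11 gu = 1 := by rw [hf11, eu n₁ hn₁ n₁ hn₁ a2, c1, a1]; decide
  have u22 : f22 gu = 0 := by rw [hf22, eu n₂ hn₂ n₂ hn₂ b2, d3, b3]; decide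
  have u21 : f21 gu = 0 := by rw [hf21, eu n₂ hn₂ n₁ hn₁ a2, d3, a1]; decide
  have x11 : f11 gx = 0 := by rw [hf11, ex n₁ hn₁ n₁ hn₁ a2, c3, a3]; decide
  have x22 : f22 gx = 1 := by rw [hf22, ex n₂ hn₂ n₂ hn₂ b2, d1, b1]; decide
  have x21 : f21 gx = 0 := by rw [hf21, ex n₂ hn₂ n₁ hn₁ a2, d1, a3]; decide
  have z1 : Bg (cz v₁) v₂ n₁ (u * x) = 1 := by rw [o.add n₁ hn₁ u huN x hxN, c1, c3]; decide
  have z2' : Bg (cz v₁) v₂ n₂ (u * x) = 1 := by rw [o.add n₂ hn₂ u huN x hxN, d3, d1]; decide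
  have z3 : Bg (cz v₁) v₂ (u * x) n₁ = 1 := by rw [o.add_left huN hxN hn₁, a1, a3]; decide
  have z4 : Bg (cz v₁) v₂ (u * x) n₂ = 1 := by rw [o.add_left huN hxN hn₂, b3, b1]; decide
  have z11 : f11 gz = 1 := by rw [hf11, ez n₁ hn₁ n₁ hn₁ a2, z1, z3]; decide
  have z22 : f22 gz = 1 := by rw [hf22, ez n₂ hn₂ n₂ hn₂ b2, z2', z4]; decide
  have z21 : f21 gz = 1 := by rw [hf21, ez n₂ hn₂ n₁ hn₁ a2, z2', z3]; decide
  have k1 := card_ker' A11 ⟨gu, hgu, u11⟩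
  set K1 := ker (Ta h l) f11 A11 with hK1
  have K1le : K1 ≤ Ta h l := fun t ht => ht.1
  have A22' : ∀ x ∈ K1, ∀ y ∈ K1, f22 (x * y) = f22 x + f22 y := fun x hx y hy => A22 x (K1le hx) y (K1le hy)
  have k2 := card_ker' A22' ⟨gx, ⟨hgx, x11⟩, x22⟩
  set K2 := ker K1 f22 A22' with hK2
  have K2le : K2 ≤ Ta h l := fun t ht => ht.1.1
  have A21' : ∀ x ∈ K2, ∀ y ∈ K2, f21 (x * y) = f21 x + f21 y := fun x hx y hy => A21 x (K2le hx) y (K2le hy)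
  have hgg := mul_mem hgu hgx
  have k3 := card_ker' A21' ⟨gu * gx * gz, ⟨⟨mul_mem hgg hgz, by
      show f11 (gu * gx * gz) = 0
      rw [A11 _ hgg _ hgz, A11 _ hgu _ hgx, u11, x11, z11]; decide⟩, by
      show f22 (gu * gx * gz) = 0
      rw [A22 _ hgg _ hgz, A22 _ hgu _ hgx, u22, x22, z22]; decide⟩, by
      show f21 (gu * gx * gz) = 1
      rw [A21 _ hgg _ hgz, A21 _ hgu _ hgx, u21, x21, z21]; decide⟩
  set K3 := ker K2 f21 A21' with hK3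
  -- `Q₁`, `Q₂ ≤ K₃`
  have hf : ∀ a ∈ nc v₁ {v₂}, Bg (cz v₁) v₂ v₂ a = 0 → ∀ b ∈ nc v₁ {v₂}, ∀ t,
      (t * b * t⁻¹ = b ∨ t * b * t⁻¹ = b * v₂) → ff v₁ v₂ a b t = 0 := by
    intro a ha hBa b hb t ht
    unfold ff
    rcases ht with h1 | h1
    · rw [h1, inv_mul_cancel]
      exact hs.one_right ha
    · rw [h1, inv_mul_cancel_left, o.comm _ ha _ o.r_mem, hBa]
  have key : ∀ t ∈ T, (∀ b ∈ nc v₁ {v₂}, Bg (cz v₁) v₂ v₂ b = 0 → t * b * t⁻¹ = b ∨ t * b * t⁻¹ = b * v₂) → t ∈ K3 := by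
    intro t ht hb
    refine ⟨⟨⟨⟨ht, fun y hy => hb y (P.rk.RN hy) ?_⟩, ?_⟩, ?_⟩, ?_⟩
    · exact P.rk.iso v₂ hrR y hy
    · exact hf n₁ hn₁ a2 n₁ hn₁ t (hb n₁ hn₁ a2)
    · exact hf n₂ hn₂ b2 n₂ hn₂ t (hb n₂ hn₂ b2)
    · exact hf n₂ hn₂ b2 n₁ hn₁ t (hb n₁ hn₁ a2)
  have hQ : ZN.o2 (cz v₁) ⊔ ZN.o2 (cz v₂) ≤ K3 := by
    refine sup_le (fun t ht => key t (hb.Q_le ht) fun b hbN _ => Or.inl ?_)
      (fun t ht => key t (hb.symm.Q_le ht) fun b hbN hB => comm_A h hnl hI hl P hbN hB ht)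
    rw [hb.Q_N1 ht hbN, mul_inv_cancel_right]
  have := Subgroup.card_le_of_le hQ
  omega

end

section

variable [Finite G] {T V₁ V₂ L₁ L₂ : Subgroup G} {v₁ v₂ s : G}

theorem card_c (h : One T V₁ V₂ L₁ L₂ v₁ v₂ s) (hnl : NonLoc (cz v₁) (cz v₂))
    (hI : ∃ x ∈ nc v₁ {v₂}, ∃ y ∈ nc v₂ {v₁}, x * y ≠ y * x) :
    16 * Nat.card (ZN.o2 (cz v₁) ⊔ ZN.o2 (cz v₂) : Subgroup G) ≤ Nat.card T := by
  obtain ⟨x, hx, hx1, hxv⟩ := exists_x h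
  obtain ⟨w, l, hl, P⟩ := exists_plane h hI hx hx1 hxv
  exact card_c' h hnl hI hl P

end

end Cfsg.Agent.Omega.IId.Pf.CardC
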