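import Cfsg.Agent.Omega.IId.Pf.Idx
import Cfsg.Agent.Omega.IId.Pf.Dual

/-!
# II.d, CASE 1, `q = 2`, case B: the digons and the projective planes

helper310.
-/

set_option autoImplicit false
set_option linter.unusedSectionVars false
set_option linter.unusedVariables false

namespace Cfsg.Agent.Omega.IId.Pf.Geo

open Cfsg.Agent.Omega.TV hiding z2
open Subgroup Cfsg Cfsg.Agent.ZN Cfsg.Agent.Omega.IId.PlaneSy Cfsg.Agent.Omega.IId.PlaneRk
open Cfsg.Agent.Omega.IId.PlaneF Cfsg.Agent.Omega.IId.PlaneOf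
open Cfsg.Agent.Omega.IId.One Cfsg.Agent.Omega.IId.SpSide
open Cfsg.Agent.Omega.IId.SpForm (two_mul_card_le)
open Cfsg.Agent.Omega.MinPar
open Cfsg.Agent.Omega.NoFF.Basic
open Cfsg.Agent.Omega.IId.Pf.Rad Cfsg.Agent.Omega.IId.Pf.Par Cfsg.Agent.Omega.IId.Pf.Idx
open Cfsg.Agent.ParSys Cfsg.Agent.ParSys.Free Cfsg.Agent.ParSys.RankTwo Cfsg.Agent.ParSys.FlagGP
open scoped Pointwise commutatorElement

universe u

variable {G : Type u} [Group G]

/-! ### The actions by conjugation -/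

/-- elements of `G`, `G` acts by conjugation -/
structure Pt (G : Type u) where
  val : G

/-- subgroups of `G`, `G` acts by conjugation -/
structure Ln (G : Type u) [Group G] where
  val : Subgroup G

instance : MulAction G (Pt G) where
  smul g x := ⟨g * x.val * g⁻¹⟩
  one_smul x := by
    show Pt.mk (1 * x.val * 1⁻¹) = x
    simp
  mul_smul g k x := by
    show Pt.mk (g * k * x.val * (g * k)⁻¹) = Pt.mk (g * (k * x.val * k⁻¹) * g⁻¹)
    simp [mul_assoc]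

instance : MulAction G (Ln G) where
  smul g L := ⟨MulAut.conj g • L.val⟩
  one_smul L := by
    show Ln.mk (MulAut.conj 1 • L.val) = L
    rw [map_one, one_smul]
  mul_smul g k L := by
    show Ln.mk (MulAut.conj (g * k) • L.val) = Ln.mk (MulAut.conj g • (MulAut.conj k • L.val))
    rw [map_mul, mul_smul]

theorem pt_smul (g : G) (x : Pt G) : (g • x).val = g * x.val * g⁻¹ := rfl
theorem ln_smul (g : G) (L : Ln G) : (g • L).val = MulAut.conj g • L.val := rfl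

theorem pt_ext {x y : Pt G} (h : x.val = y.val) : x = y := by
  cases x; cases y; cases h; rfl

theorem ln_ext {x y : Ln G} (h : x.val = y.val) : x = y := by
  cases x; cases y; cases h; rfl

theorem mem_sm {g x : G} {A : Subgroup G} : g * x * g⁻¹ ∈ MulAut.conj g • A ↔ x ∈ A := by
  rw [mem_conj]
  rw [show g⁻¹ * (g * x * g⁻¹) * g = x by group]

/-! ### Klein four groups -/

/-- `{1, x, y, xy}` -/
def kl {x y : G} (hx : x * x = 1) (hy : y * y = 1) (hc : x * y = y * x) : Subgroup G where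
  carrier := {t | t = 1 ∨ t = x ∨ t = y ∨ t = x * y}
  one_mem' := Or.inl rfl
  mul_mem' := by
    have e1 : x * (x * y) = y := by rw [← mul_assoc, hx, one_mul]
    have e2 : y * (x * y) = x := by rw [hc, ← mul_assoc, hy, one_mul]
    have e3 : x * y * x = y := by rw [hc, mul_assoc, hx, mul_one]
    have e4 : x * y * y = x := by rw [mul_assoc, hy, mul_one]
    have e5 : x * y * (x * y) = 1 := by rw [mul_assoc, e2, hx]
    have e6 : y * x = x * y := hc.symm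
    rintro a b (rfl | rfl | rfl | rfl) (rfl | rfl | rfl | rfl) <;> simp [e1, e2, e3, e4, e5, e6, hx, hy]
  inv_mem' := by
    have hx' : x⁻¹ = x := inv_eq_of_mul_eq_one_left hx
    have hy' : y⁻¹ = y := inv_eq_of_mul_eq_one_left hy
    rintro a (rfl | rfl | rfl | rfl) <;> simp [hx', hy', ← hc]

theorem mem_kl {x y t : G} {hx : x * x = 1} {hy : y * y = 1} {hc : x * y = y * x} :
    t ∈ kl hx hy hc ↔ t = 1 ∨ t = x ∨ t = y ∨ t = x * y := Iff.rfl

theorem card_kl [Finite G] {x y : G} {hx : x * x = 1} {hy : y * y = 1} {hc : x * y = y * x} (hx1 : x ≠ 1)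
    (hy1 : y ≠ 1) (hxy : x ≠ y) : Nat.card (kl hx hy hc) = 4 := by
  apply le_antisymm
  · classical
    have h5 : (kl hx hy hc : Set G) ⊆ (({1, x, y, x * y} : Finset G) : Set G) := by
      intro t ht
      have ht : t = 1 ∨ t = x ∨ t = y ∨ t = x * y := ht
      simpa using ht
    have h6 := Set.ncard_le_ncard h5 (Finset.finite_toSet _)
    rw [Set.ncard_coe_finset] at h6
    have h7 : Nat.card (kl hx hy hc) = (kl hx hy hc : Set G).ncard := Nat.card_coe_set_eq _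
    have h9 : ({1, x, y, x * y} : Finset G).card ≤ 4 := Finset.card_le_four
    omega
  · have h1 : Nat.card (zpowers x) = 2 := by
      rw [Nat.card_zpowers]
      exact orderOf_eq_prime (by rw [pow_two, hx]) hx1
    have h2 := two_mul_card_le (K := zpowers x) (H := kl hx hy hc) (zpowers_le.2 (Or.inr (Or.inl rfl)))
      ⟨y, Or.inr (Or.inr (Or.inl rfl)), fun e => by
        rcases (mem_zp2 hx).1 e with e | e
        · exact hy1 e
        · exact hxy e.symm⟩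
    omega

theorem eq_kl [Finite G] {x y : G} {hx : x * x = 1} {hy : y * y = 1} {hc : x * y = y * x} (hx1 : x ≠ 1)
    (hy1 : y ≠ 1) (hxy : x ≠ y) {L : Subgroup G} (hL : Nat.card L = 4) (h1 : x ∈ L) (h2 : y ∈ L) :
    L = kl hx hy hc := by
  refine (Subgroup.eq_of_le_of_card_ge ?_ (by rw [hL, card_kl hx1 hy1 hxy])).symm
  rintro t (rfl | rfl | rfl | rfl)
  · exact one_mem _
  · exact h1
  · exact h2
  · exact mul_mem h1 h2

/-- a subgroup of index 2 -/
theorem quo_two [Finite G] {A R : Subgroup G} (hA : A ≤ R) (hc : Nat.card R = 2 * Nat.card A) {x y : G}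
    (hx : x ∈ R) (hy : y ∈ R) (hx2 : x ∉ A) (hy2 : y ∉ A) : x * y ∈ A := by
  have h5 : (A.subgroupOf R).index = 2 := by
    have h6 := (A.subgroupOf R).card_mul_index
    rw [Nat.card_congr (subgroupOfEquivOfLe hA).toEquiv, hc, mul_comm 2] at h6
    exact Nat.eq_of_mul_eq_mul_left Nat.card_pos h6
  exact (mul_mem_iff_of_index_two h5 (a := ⟨x, hx⟩) (b := ⟨y, hy⟩)).2 ⟨fun e => absurd e hx2, fun e => absurd e hy2⟩

/-! ### The digons -/

theorem inv_mul {A : Subgroup G} {x y : G} (hx : x ∈ A) (hy : y ∈ A) : x⁻¹ * y ∈ A := A.mul_mem (A.inv_mem hx) hy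

theorem swap_mul {A B : Subgroup G} (h : ∀ p ∈ A, ∀ q ∈ B, ∃ q' ∈ B, ∃ p' ∈ A, p * q = q' * p') :
    ∀ q ∈ B, ∀ p ∈ A, ∃ p' ∈ A, ∃ q' ∈ B, q * p = p' * q' := by
  intro q hq p hp
  obtain ⟨q', hq', p', hp', e⟩ := h p⁻¹ (inv_mem hp) q⁻¹ (inv_mem hq)
  refine ⟨p'⁻¹, inv_mem hp', q'⁻¹, inv_mem hq', ?_⟩
  rw [← mul_inv_rev, ← e, mul_inv_rev, inv_inv, inv_inv]

section main

variable [Finite G] {T V₁ V₂ L₁ L₂ : Subgroup G} {v₁ v₂ s : G} {I : Type*} {PP : I → Subgroup G} {i j : I}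

theorem digon_E (h : Base T V₁ V₂ L₁ L₂ v₁ v₂ s)
    (hT : ∀ x, x ∈ T ↔ x ∈ cz v₁ ∧ x ∈ cz v₂ ∧ x ∈ normalizer (V₁ : Set G) ∧ x ∈ normalizer (V₂ : Set G))
    (hBP : ∀ i, T ≤ PP i) (hi : PP i = PE v₂ V₁ V₂) (hj : PP j = PE v₁ V₁ V₂) :
    GPp T PP i j 2 ∧ GPp T PP j i 2 := by
  have hinf : ∀ x, x ∈ PP i → x ∈ PP j → x ∈ T := fun x hx hy => by
    rw [hi] at hx
    rw [hj] at hy
    exact (hT x).2 ⟨hy.1, hx.1, hx.2.1, hx.2.2⟩
  have hm : ∀ p ∈ PP i, ∀ q ∈ PP j, ∃ q' ∈ PP j, ∃ p' ∈ PP i, p * q = q' * p' := by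
    intro p hp q hq
    rw [hi] at hp
    rw [hj] at hq
    have hpq : p * q ∈ normalizer (V₂ : Set G) := mul_mem hp.2.2 hq.2.2
    have h1 : p * q * v₂ * (p * q)⁻¹ ∈ V₂ := (mem_normalizer_iff.1 hpq v₂).1 h.vV2
    have h2 : p * q * v₂ * (p * q)⁻¹ ≠ 1 := fun e => h.v2 (by
      calc v₂ = (p * q)⁻¹ * (p * q * v₂ * (p * q)⁻¹) * (p * q) := by group
        _ = 1 := by rw [e]; group)
    obtain ⟨k, hk, e⟩ := h.t2 v₂ h.vV2 h.v2 _ h1 h2
    have hk' := L2_PE h hk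
    refine ⟨k, by rw [hj]; exact hk', k⁻¹ * (p * q), ?_, by group⟩
    rw [hi]
    exact ⟨conj_eq_iff.1 e, inv_mul hk'.2.1 (mul_mem hp.2.1 hq.2.1), inv_mul hk'.2.2 hpq⟩
  exact ⟨gpp_two hBP hinf hm, gpp_two hBP (fun x hx hy => hinf x hy hx) (swap_mul hm)⟩

theorem digon_M (h : Base T V₁ V₂ L₁ L₂ v₁ v₂ s)
    (hT : ∀ x, x ∈ T ↔ x ∈ cz v₁ ∧ x ∈ cz v₂ ∧ x ∈ normalizer (V₁ : Set G) ∧ x ∈ normalizer (V₂ : Set G))
    (hBP : ∀ i, T ≤ PP i) (hi : PP i = PM v₁ v₂ V₂) (hj : PP j = PE v₁ V₁ V₂) :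
    GPp T PP i j 2 ∧ GPp T PP j i 2 := by
  have hinf : ∀ x, x ∈ PP i → x ∈ PP j → x ∈ T := fun x hx hy => by
    rw [hi] at hx
    rw [hj] at hy
    exact (hT x).2 ⟨hy.1, hx.1.2, hy.2.1, hy.2.2⟩
  have hm : ∀ p ∈ PP i, ∀ q ∈ PP j, ∃ q' ∈ PP j, ∃ p' ∈ PP i, p * q = q' * p' := by
    intro p hp q hq
    rw [hi] at hp
    rw [hj] at hq
    have hpq : p * q ∈ normalizer (V₂ : Set G) := mul_mem hp.2 hq.2.2
    have h1 : p * q * v₂ * (p * q)⁻¹ ∈ V₂ := (mem_normalizer_iff.1 hpq v₂).1 h.vV2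
    have h2 : p * q * v₂ * (p * q)⁻¹ ≠ 1 := fun e => h.v2 (by
      calc v₂ = (p * q)⁻¹ * (p * q * v₂ * (p * q)⁻¹) * (p * q) := by group
        _ = 1 := by rw [e]; group)
    obtain ⟨k, hk, e⟩ := h.t2 v₂ h.vV2 h.v2 _ h1 h2
    have hk' := L2_PE h hk
    refine ⟨k, by rw [hj]; exact hk', k⁻¹ * (p * q), ?_, by group⟩
    rw [hi]
    exact ⟨⟨inv_mul hk'.1 (mul_mem hp.1.1 hq.1), conj_eq_iff.1 e⟩, inv_mul hk'.2.2 hpq⟩
  exact ⟨gpp_two hBP hinf hm, gpp_two hBP (fun x hx hy => hinf x hy hx) (swap_mul hm)⟩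

/-! ### The projective plane -/

/-- points of the plane -/
def ptR (R : Subgroup G) : Set (Pt G) := fun x => x.val ∈ R ∧ x.val ≠ 1

/-- lines of the plane -/
def lnR (R : Subgroup G) : Set (Ln G) := fun L => L.val ≤ R ∧ Nat.card L.val = 4

def inc (x : Pt G) (L : Ln G) : Prop := x.val ∈ L.val

theorem mem_ptR {R : Subgroup G} {x : Pt G} : x ∈ ptR R ↔ x.val ∈ R ∧ x.val ≠ 1 := Iff.rfl
theorem mem_lnR {R : Subgroup G} {L : Ln G} : L ∈ lnR R ↔ L.val ≤ R ∧ Nat.card L.val = 4 := Iff.rfl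

variable (h : One T V₁ V₂ L₁ L₂ v₁ v₂ s) (hnl : NonLoc (cz v₁) (cz v₂))
  (hI : ∃ x ∈ nc v₁ {v₂}, ∃ y ∈ nc v₂ {v₁}, x * y ≠ y * x) {v' w l : G} (hl : l ∈ L₁)
  (P : Plane V₁ V₂ v₁ v₂ v' w l)

include h hnl hI hl P

/-- `N_M(R)` is transitive on the lines of `R` through `v₂`. -/
theorem move_line {L : Subgroup G} (hLR : L ≤ RR v₁ v₂ l) (hL : Nat.card L = 4) (hr : v₂ ∈ L) :
    ∃ g ∈ PM v₁ v₂ V₁, MulAut.conj g • V₂ = L := by
  obtain ⟨u, hu, hu1, hur⟩ := exists_x h.symm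
  obtain ⟨x, hx, hx1, hxr⟩ : ∃ x ∈ L, x ≠ 1 ∧ x ≠ v₂ := by
    by_contra hcon
    push Not at hcon
    have h1 : L ≤ zpowers v₂ := fun t ht => by
      rw [mem_zp2 h.toBase.vq2]
      by_cases ht1 : t = 1
      · exact Or.inl ht1
      · exact Or.inr (hcon t ht ht1)
    have h2 := Subgroup.card_le_of_le h1
    rw [Nat.card_zpowers] at h2
    have h3 : orderOf v₂ ≤ 2 := orderOf_le_of_pow_eq_one (by norm_num) (by rw [pow_two, h.toBase.vq2])
    omega
  obtain ⟨m, hm, e⟩ := move h hnl hI hl P hu hu1 hur (hLR hx) hx1 hxr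
  refine ⟨m, hm, ?_⟩
  have hmr : m * v₂ * m⁻¹ = v₂ := by rw [mem_cz.1 hm.1.2, mul_inv_cancel_right]
  apply Subgroup.eq_of_le_of_card_ge
  · intro t ht
    rw [mem_conj] at ht
    have e3 : t = m * (m⁻¹ * t * m) * m⁻¹ := by group
    rw [e3]
    rcases h.toBase.symm.mem_V1 ht hu hu1 hur with e4 | e4 | e4 | e4 <;> rw [e4]
    · simp
    · rw [hmr]; exact hr
    · rw [e]; exact hx
    · have e5 : m * (v₂ * u) * m⁻¹ = m * v₂ * m⁻¹ * (m * u * m⁻¹) := by group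
      rw [e5, hmr, e]
      exact mul_mem hr hx
  · rw [Side.card_conj, hL, h.card2]

/-- **the projective plane `R`** -/
theorem plane_gp
    (hT : ∀ x, x ∈ T ↔ x ∈ cz v₁ ∧ x ∈ cz v₂ ∧ x ∈ normalizer (V₁ : Set G) ∧ x ∈ normalizer (V₂ : Set G))
    (hij : i ≠ j) (hBP : ∀ i, T ≤ PP i) (hi : PP i = PE v₁ V₁ V₂) (hj : PP j = PM v₁ v₂ V₁) :
    GPp T PP i j 3 ∧ GPp T PP j i 3 := by
  have c8 : Nat.card (RR v₁ v₂ l) = 8 := P.rk.card_eq P.four
  have sqR : ∀ x ∈ RR v₁ v₂ l, x * x = 1 := fun x hx => P.rk.o.sq x (P.rk.RN hx)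
  have coR : ∀ x ∈ RR v₁ v₂ l, ∀ y ∈ RR v₁ v₂ l, x * y = y * x := fun x hx y hy =>
    comm_of_sq sqR hx hy
  have hgR : ∀ g, g ∈ PP i ∨ g ∈ PP j → g ∈ normalizer (RR v₁ v₂ l : Set G) ∧ g ∈ cz v₁ ∧ g ∈ normalizer (V₁ : Set G) := by
    rintro g (hg | hg)
    · rw [hi] at hg
      exact ⟨P.nor ⟨hg.1, hg.2.1⟩, hg.1, hg.2.1⟩
    · rw [hj] at hg
      exact ⟨P.nor ⟨hg.1.1, hg.2⟩, hg.1.1, hg.2⟩
  have hconj : ∀ g : G, g ∈ normalizer (RR v₁ v₂ l : Set G) → ∀ L : Subgroup G, L ≤ RR v₁ v₂ l →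
      MulAut.conj g • L ≤ RR v₁ v₂ l := by
    intro g hg L hL t ht
    rw [mem_conj] at ht
    have := (mem_normalizer_iff.1 hg _).1 (hL ht)
    rwa [show g * (g⁻¹ * t * g) * g⁻¹ = t by group] at this
  have F : Flags T (PP i) (PP j) (ptR (RR v₁ v₂ l)) (lnR (RR v₁ v₂ l)) inc ⟨v₂⟩ ⟨V₂⟩ :=
    { hp := ⟨P.rk.rR, h.v2⟩
      hl := ⟨P.V2R, h.card2⟩
      hpl := h.vV2
      Bi := hBP i
      Bj := hBP j
      pts := fun g hg x hx => by
        refine ⟨(mem_normalizer_iff.1 (hgR g hg).1 _).1 hx.1, fun e => hx.2 ?_⟩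
        rw [pt_smul] at e
        calc x.val = g⁻¹ * (g * x.val * g⁻¹) * g := by group
          _ = 1 := by rw [e]; group
      lns := fun g hg L hL => by
        refine ⟨hconj g (hgR g hg).1 _ hL.1, ?_⟩
        rw [ln_smul, Side.card_conj]
        exact hL.2
      inc' := fun g hg x hx L hL hxL => by
        show g * x.val * g⁻¹ ∈ MulAut.conj g • L.val
        exact mem_sm.2 hxL
      fixl := fun g hg => by
        rw [hi] at hg
        apply ln_ext
        exact conj_eq hg.2.2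
      fixp := fun g hg => by
        rw [hj] at hg
        apply pt_ext
        show g * v₂ * g⁻¹ = v₂
        rw [mem_cz.1 hg.1.2, mul_inv_cancel_right]
      trp := fun x hx hxl => by
        obtain ⟨k, hk, e⟩ := h.t2 v₂ h.vV2 h.v2 x.val hxl hx.2
        exact ⟨k, by rw [hi]; exact L2_PE h.toBase hk, pt_ext e⟩
      trl := fun L hL hpL => by
        obtain ⟨g, hg, e⟩ := move_line h hnl hI hl P hL.1 hL.2 hpL
        exact ⟨g, by rw [hj]; exact hg, ln_ext e⟩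
      stab := fun g hg hp hL => by
        have h1 : g ∈ cz v₁ ⊓ normalizer (V₁ : Set G) :=
          (sup_le (fun x hx => (hgR x (Or.inl hx)).2) (fun x hx => (hgR x (Or.inr hx)).2) :
            PP i ⊔ PP j ≤ cz v₁ ⊓ normalizer (V₁ : Set G)) hg
        refine (hT g).2 ⟨h1.1, ?_, h1.2, ?_⟩
        · have h2 : g * v₂ * g⁻¹ = v₂ := congrArg Pt.val hp
          exact mem_cz.2 (mul_inv_eq_iff_eq_mul.1 h2)
        · exact mem_normalizer_of_conj (congrArg Ln.val hL) }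
  refine F.gpp_three hBP hij ?_ ?_ ?_
  · intro x hx y hy hxy
    have hne : x.val ≠ y.val := fun e => hxy (pt_ext e)
    have hc := coR _ hx.1 _ hy.1
    refine ⟨⟨kl (sqR _ hx.1) (sqR _ hy.1) hc⟩, ⟨?_, card_kl (hx := sqR _ hx.1) (hy := sqR _ hy.1) (hc := hc) hx.2 hy.2 hne⟩, Or.inr (Or.inl rfl),
      Or.inr (Or.inr (Or.inl rfl))⟩
    rintro t (rfl | rfl | rfl | rfl)
    · exact one_mem _
    · exact hx.1
    · exact hy.1
    · exact mul_mem hx.1 hy.1
  · intro x hx y hy hxy L hL L' hL' h1 h2 h3 h4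
    have hne : x.val ≠ y.val := fun e => hxy (pt_ext e)
    have hc := coR _ hx.1 _ hy.1
    apply ln_ext
    rw [eq_kl (hx := sqR _ hx.1) (hy := sqR _ hy.1) (hc := hc) hx.2 hy.2 hne hL.2 h1 h2,
      eq_kl (hx := sqR _ hx.1) (hy := sqR _ hy.1) (hc := hc) hx.2 hy.2 hne hL'.2 h3 h4]
  · intro L hL L' hL' hne
    -- two elements of `L'` outside `L`
    by_contra hcon
    push Not at hcon
    have hcap : ∀ t ∈ L.val, t ∈ L'.val → t = 1 := by
      intro t ht ht'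
      by_contra ht1
      exact hcon ⟨t⟩ ⟨hL.1 ht, ht1⟩ ht ht'
    have h2 : ∀ x ∈ L'.val, ∀ y ∈ L'.val, x ≠ 1 → y ≠ 1 → x = y := by
      intro x hx y hy hx1 hy1
      have hxL : x ∉ L.val := fun e => hx1 (hcap x e hx)
      have hyL : y ∉ L.val := fun e => hy1 (hcap y e hy)
      have h3 := quo_two hL.1 (by rw [c8, hL.2]) (hL'.1 hx) (hL'.1 hy) hxL hyL
      have h4 := hcap _ h3 (mul_mem hx hy)
      calc x = x * (y * y) := by rw [sqR y (hL'.1 hy), mul_one]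
        _ = y := by rw [← mul_assoc, h4, one_mul]
    obtain ⟨x, hx, hx1⟩ : ∃ x ∈ L'.val, x ≠ 1 := by
      by_contra hcon2
      push Not at hcon2
      have h3 : L'.val ≤ ⊥ := fun x hx => by rw [mem_bot]; exact hcon2 x hx
      have h4 := Subgroup.card_le_of_le h3
      rw [hL'.2, Subgroup.card_bot] at h4
      omega
    have h3 : L'.val ≤ zpowers x := fun y hy => by
      by_cases hy1 : y = 1
      · rw [hy1]; exact one_mem _
      · rw [h2 y hy x hx hy1 hx1]; exact mem_zpowers _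
    have h4 := Subgroup.card_le_of_le h3
    rw [Nat.card_zpowers, hL'.2] at h4
    have h5 : orderOf x ≤ 2 := orderOf_le_of_pow_eq_one (by norm_num) (by rw [pow_two, sqR x (hL'.1 hx)])
    omega

end main

/-! ### Restriction to a subgroup -/

theorem gpp_restrict {B H : Subgroup G} {I : Type*} {P : I → Subgroup G} (hBP : ∀ i, B ≤ P i) (hPH : ∀ i, P i ≤ H)
    {i j : I} {m : ℕ} (hg : GPp B P i j m) :
    GPp (B.subgroupOf H) (fun i => (P i).subgroupOf H) i j m := by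
  have hM : Model (B.subgroupOf H) (fun i => (P i).subgroupOf H) i j (adj B P) (fun x : H => ((x : G) : G ⧸ B)) ⊤ :=
    { li := le_top
      lj := le_top
      inj := fun x _ y _ e => by
        rw [QuotientGroup.eq] at e
        exact e
      eqB := fun x _ b hb => by
        rw [QuotientGroup.eq]
        have e : ((x * b : H) : G)⁻¹ * (x : G) = ((b : H) : G)⁻¹ := by
          rw [Subgroup.coe_mul]; group
        rw [e]
        exact inv_mem hb
      adj := fun k _ x _ p hp hpB => by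
        rw [adj_mk hBP]
        have e : ((x : H) : G)⁻¹ * ((x * p : H) : G) = (p : G) := by
          rw [Subgroup.coe_mul]; group
        rw [e]
        exact ⟨hp, hpB⟩
      sur := fun k _ x _ d hd => by
        induction d using QuotientGroup.induction_on with
        | _ y =>
        rw [adj_mk hBP] at hd
        refine ⟨⟨(x : G)⁻¹ * y, hPH k hd.1⟩, hd.1, hd.2, ?_⟩
        have e : ((x * ⟨(x : G)⁻¹ * y, hPH k hd.1⟩ : H) : G) = y := by
          rw [Subgroup.coe_mul]; group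
        rw [e] }
  refine hM.gpp (fun i => ?_) fun l hl => hg _ l hl
  intro x hx
  exact hBP i hx

end Cfsg.Agent.Omega.IId.Pf.Geo
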