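import Cfsg.Agent.Omega.IId.Pf.Par
import Cfsg.Agent.ParSys.FlagGP

/-!
# II.d, CASE 1, `q = 2`, case B: the minimal parabolics

helper310.  `PE v V₁ V₂ = C_G(v) ∩ N(V₁) ∩ N(V₂)`, `PM v₁ v₂ V = C_G(v₁) ∩ C_G(v₂) ∩ N(V)`; the indices of `T` are 3, and
they generate `⟨C₁, C₂⟩`.
-/

set_option autoImplicit false
set_option linter.unusedSectionVars false
set_option linter.unusedVariables false

namespace Cfsg.Agent.Omega.IId.Pf.Idx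

open Cfsg.Agent.Omega.TV hiding z2
open Subgroup Cfsg Cfsg.Agent.ZN Cfsg.Agent.Omega.IId.PlaneSy Cfsg.Agent.Omega.IId.PlaneRk
open Cfsg.Agent.Omega.IId.PlaneF Cfsg.Agent.Omega.IId.PlaneOf
open Cfsg.Agent.Omega.IId.One Cfsg.Agent.Omega.IId.SpSide
open Cfsg.Agent.Omega.MinPar
open Cfsg.Agent.Omega.NoFF.Basic
open Cfsg.Agent.Omega.IId.Pf.Rad Cfsg.Agent.Omega.IId.Pf.Par
open Cfsg.Agent.Omega.IId.Two (le_normalizer_of)
open scoped Pointwise commutatorElement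

universe u

variable {G : Type u} [Group G]

/-- Orbit-stabiliser. -/
theorem relIndex_orbit {α : Type*} {T P : Subgroup G} (φ : G → α) (Ω : Set α)
    (hT : ∀ x ∈ P, ∀ y ∈ P, φ x = φ y ↔ x⁻¹ * y ∈ T) (hmem : ∀ x ∈ P, φ x ∈ Ω)
    (hsur : ∀ ω ∈ Ω, ∃ x ∈ P, φ x = ω) : T.relIndex P = Ω.ncard := by
  have h1 : Set.range (fun a : P ⧸ T.subgroupOf P => φ (a.out : P)) = Ω := by
    ext ω
    constructor
    · rintro ⟨a, rfl⟩
      exact hmem _ (a.out : P).2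
    · intro hω
      obtain ⟨x, hx, rfl⟩ := hsur ω hω
      refine ⟨((⟨x, hx⟩ : P) : P ⧸ T.subgroupOf P), ?_⟩
      show φ ((((⟨x, hx⟩ : P) : P ⧸ T.subgroupOf P).out : P) : G) = φ x
      rw [hT _ (Subtype.property _) _ hx]
      have h2 := QuotientGroup.out_eq' ((⟨x, hx⟩ : P) : P ⧸ T.subgroupOf P)
      rw [QuotientGroup.eq] at h2
      exact h2
  have h2 : Function.Injective (fun a : P ⧸ T.subgroupOf P => φ (a.out : P)) := by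
    intro a b h3
    have h4 := (hT _ (a.out : P).2 _ (b.out : P).2).1 h3
    rw [← QuotientGroup.out_eq' a, ← QuotientGroup.out_eq' b, QuotientGroup.eq]
    exact h4
  rw [← h1, Set.ncard_range_of_injective h2]
  rfl

/-- `|A ∖ {1}|` -/
theorem ncard_one [Finite G] (A : Subgroup G) : {x | x ∈ A ∧ x ≠ 1}.ncard + 1 = Nat.card A := by
  have h1 : (A : Set G) = insert 1 {x | x ∈ A ∧ x ≠ 1} := by
    ext x
    simp only [SetLike.mem_coe, Set.mem_insert_iff, Set.mem_ofPred_eq]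
    constructor
    · intro hx
      by_cases h : x = 1
      · exact Or.inl h
      · exact Or.inr ⟨hx, h⟩
    · rintro (rfl | h)
      · exact one_mem _
      · exact h.1
  have h2 : Nat.card A = (A : Set G).ncard := Nat.card_coe_set_eq _
  rw [h2, h1, Set.ncard_insert_of_notMem (by simp)]

theorem ncard_two [Finite G] {A : Subgroup G} {r : G} (hr : r ∈ A) (hr1 : r ≠ 1) :
    {x | x ∈ A ∧ x ≠ 1 ∧ x ≠ r}.ncard + 2 = Nat.card A := by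
  have h1 : {x | x ∈ A ∧ x ≠ 1} = insert r {x | x ∈ A ∧ x ≠ 1 ∧ x ≠ r} := by
    ext x
    simp only [Set.mem_insert_iff, Set.mem_ofPred_eq]
    constructor
    · rintro ⟨hx, h⟩
      by_cases h2 : x = r
      · exact Or.inl h2
      · exact Or.inr ⟨hx, h, h2⟩
    · rintro (rfl | h)
      · exact ⟨hr, hr1⟩
      · exact ⟨h.1, h.2.1⟩
  rw [← ncard_one A, h1, Set.ncard_insert_of_notMem (by simp)]

theorem conj_eq_iff {x y v : G} : x * v * x⁻¹ = y * v * y⁻¹ ↔ x⁻¹ * y ∈ cz v := by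
  rw [mem_cz]
  constructor
  · intro h
    calc x⁻¹ * y * v = x⁻¹ * (y * v * y⁻¹) * y := by group
      _ = v * (x⁻¹ * y) := by rw [← h]; group
  · intro h
    calc x * v * x⁻¹ = x * (v * (x⁻¹ * y)) * y⁻¹ := by group
      _ = y * v * y⁻¹ := by rw [← h]; group

/-- `C_G(v) ∩ N(V₁) ∩ N(V₂)` -/
def PE (v : G) (V₁ V₂ : Subgroup G) : Subgroup G := cz v ⊓ (normalizer (V₁ : Set G) ⊓ normalizer (V₂ : Set G))

/-- `C_G(v₁) ∩ C_G(v₂) ∩ N(V)` -/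
def PM (v₁ v₂ : G) (V : Subgroup G) : Subgroup G := cz v₁ ⊓ cz v₂ ⊓ normalizer (V : Set G)

theorem mem_PE {v x : G} {V₁ V₂ : Subgroup G} :
    x ∈ PE v V₁ V₂ ↔ x ∈ cz v ∧ x ∈ normalizer (V₁ : Set G) ∧ x ∈ normalizer (V₂ : Set G) := Iff.rfl

theorem mem_PM {v₁ v₂ x : G} {V : Subgroup G} :
    x ∈ PM v₁ v₂ V ↔ (x ∈ cz v₁ ∧ x ∈ cz v₂) ∧ x ∈ normalizer (V : Set G) := Iff.rfl

theorem PE_comm (v : G) (V₁ V₂ : Subgroup G) : PE v V₂ V₁ = PE v V₁ V₂ := by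
  unfold PE; rw [inf_comm (normalizer (V₂ : Set G))]

theorem PM_comm (v₁ v₂ : G) (V : Subgroup G) : PM v₂ v₁ V = PM v₁ v₂ V := by
  unfold PM; rw [inf_comm (cz v₂)]

section main

variable [Finite G] {T V₁ V₂ L₁ L₂ : Subgroup G} {v₁ v₂ s : G}

section base

variable (h : Base T V₁ V₂ L₁ L₂ v₁ v₂ s)
include h

omit [Finite G] in
theorem T_PE : T ≤ PE v₁ V₁ V₂ := le_inf h.T_le (le_inf h.T_norm1 h.T_norm2)

omit [Finite G] in
theorem T_PM : T ≤ PM v₁ v₂ V₁ := le_inf h.T_leM h.T_norm1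

omit [Finite G] in
theorem L2_norm1 : L₂ ≤ normalizer (V₁ : Set G) := le_normalizer_of fun k hk v hv => by
  rw [h.L21 k hk v hv, mul_inv_cancel_right]; exact hv

omit [Finite G] in
theorem L2_PE : L₂ ≤ PE v₁ V₁ V₂ := le_inf h.L2_le (le_inf (L2_norm1 h) h.L_norm2)

end base

variable (h : One T V₁ V₂ L₁ L₂ v₁ v₂ s) (hnl : NonLoc (cz v₁) (cz v₂))
  (hI : ∃ x ∈ nc v₁ {v₂}, ∃ y ∈ nc v₂ {v₁}, x * y ≠ y * x) {v' w l : G} (hl : l ∈ L₁)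
  (P : Plane V₁ V₂ v₁ v₂ v' w l)

include h hnl hI hl P

theorem T_iff {x : G} : x ∈ T ↔ x ∈ cz v₁ ∧ x ∈ cz v₂ ∧ x ∈ normalizer (V₁ : Set G) ∧ x ∈ normalizer (V₂ : Set G) := by
  have e := mem_T h hnl hI hl P
  have e2 : x ∈ T ↔ x ∈ cz v₁ ⊓ cz v₂ ⊓ normalizer (V₁ : Set G) ⊓ normalizer (V₂ : Set G) := by
    conv_lhs => rw [e]
  rw [e2]
  exact ⟨fun hx => ⟨hx.1.1.1, hx.1.1.2, hx.1.2, hx.2⟩, fun hx => ⟨⟨⟨hx.1, hx.2.1⟩, hx.2.2.1⟩, hx.2.2.2⟩⟩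

/-- `|P₄ : T| = 3` -/
theorem idx_PE : T.relIndex (PE v₁ V₁ V₂) = 3 := by
  have h1 := relIndex_orbit (T := T) (P := PE v₁ V₁ V₂) (fun g => g * v₂ * g⁻¹) {x | x ∈ V₂ ∧ x ≠ 1} ?_ ?_ ?_
  · have h2 := ncard_one V₂
    rw [h.card2] at h2
    omega
  · intro x hx y hy
    rw [conj_eq_iff, T_iff h hnl hI hl P]
    have hxy := mul_mem (inv_mem hx) hy
    exact ⟨fun e => ⟨hxy.1, e, hxy.2.1, hxy.2.2⟩, fun e => e.2.1⟩
  · intro x hx
    refine ⟨(mem_normalizer_iff.1 hx.2.2 _).1 h.vV2, fun e => h.v2 ?_⟩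
    calc v₂ = x⁻¹ * (x * v₂ * x⁻¹) * x := by group
      _ = 1 := by rw [e]; group
  · rintro x ⟨hx, hx1⟩
    obtain ⟨k, hk, e⟩ := h.t2 v₂ h.vV2 h.v2 x hx hx1
    exact ⟨k, L2_PE h.toBase hk, e⟩

/-- `N_M(R)` is transitive on `R ∖ ⟨v₂⟩`. -/
theorem move {u x : G} (hu : u ∈ V₂) (hu1 : u ≠ 1) (hur : u ≠ v₂) (hx : x ∈ RR v₁ v₂ l) (hx1 : x ≠ 1) (hxr : x ≠ v₂) :
    ∃ m ∈ PM v₁ v₂ V₁, m * u * m⁻¹ = x := by
  have huR := P.V2R hu
  have huN := P.rk.RN huR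
  have huu := P.rk.o.sq u huN
  obtain ⟨m, hm, hmR, -, hmu, -⟩ := siegel' P.rk P.four (x := u) (y := u * x) huR (mul_mem huR hx) hu1 hur
    (fun e => hx1 (by
      calc x = u * (u * x) := by rw [← mul_assoc, huu, one_mul]
        _ = 1 := by rw [← e, huu])) (fun e => hxr (mul_left_cancel e).symm)
  rw [← mul_assoc, huu, one_mul] at hmu
  exact ⟨m, ⟨hm, nM h hI P hm.1 hm.2 hmR⟩, hmu⟩

omit [Finite G] hnl hl in
/-- an element of `M` mapping `u ∈ V₂` into `V₂` normalises `V₂` -/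
theorem norm_V2 {u m : G} [Finite G] (hu : u ∈ V₂) (hu1 : u ≠ 1) (hur : u ≠ v₂) (hm : m ∈ cz v₂) (hmu : m * u * m⁻¹ ∈ V₂) :
    m ∈ normalizer (V₂ : Set G) := by
  apply Cfsg.Agent.MinSimple.VModule.mem_normalizer_of_map_le
  rintro _ ⟨x, hx, rfl⟩
  show m * x * m⁻¹ ∈ V₂
  have hmr : m * v₂ * m⁻¹ = v₂ := by rw [mem_cz.1 hm, mul_inv_cancel_right]
  rcases h.toBase.symm.mem_V1 hx hu hu1 hur with rfl | rfl | rfl | rfl
  · simp
  · rw [hmr]; exact h.vV2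
  · exact hmu
  · have e : m * (v₂ * u) * m⁻¹ = m * v₂ * m⁻¹ * (m * u * m⁻¹) := by group
    rw [e, hmr]
    exact mul_mem h.vV2 hmu

/-- `|P₃ : T| = 3` -/
theorem idx_PM : T.relIndex (PM v₁ v₂ V₁) = 3 := by
  obtain ⟨u, hu, hu1, hur⟩ := exists_x h.symm
  have huR := P.V2R hu
  have hb := h.toBase
  have hne : ∀ m : G, m ∈ cz v₂ → m * u * m⁻¹ ≠ 1 ∧ m * u * m⁻¹ ≠ v₂ := by
    intro m hm
    refine ⟨fun e => hu1 ?_, fun e => hur ?_⟩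
    · calc u = m⁻¹ * (m * u * m⁻¹) * m := by group
        _ = 1 := by rw [e]; group
    · calc u = m⁻¹ * (m * u * m⁻¹) * m := by group
        _ = m⁻¹ * (v₂ * m) := by rw [e]; group
        _ = v₂ := by rw [← mem_cz.1 hm]; group
  have h6 := relIndex_orbit (T := T ⊓ cz u) (P := PM v₁ v₂ V₁) (fun g => g * u * g⁻¹)
    {x | x ∈ RR v₁ v₂ l ∧ x ≠ 1 ∧ x ≠ v₂} ?_ ?_ ?_
  · have h2 := relIndex_orbit (T := T ⊓ cz u) (P := T) (fun g => g * u * g⁻¹) {x | x ∈ V₂ ∧ x ≠ 1 ∧ x ≠ v₂} ?_ ?_ ?_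
    · have c6 := ncard_two (A := RR v₁ v₂ l) P.rk.rR h.v2
      have c2 := ncard_two (A := V₂) h.vV2 h.v2
      have c8 : Nat.card (RR v₁ v₂ l) = 8 := P.rk.card_eq P.four
      rw [c8] at c6
      rw [h.card2] at c2
      have h3 := relIndex_mul_relIndex (T ⊓ cz u) T (PM v₁ v₂ V₁) inf_le_left (T_PM hb)
      rw [h2, h6] at h3
      have e2 : {x | x ∈ V₂ ∧ x ≠ 1 ∧ x ≠ v₂}.ncard = 2 := by omega
      rw [e2] at h3
      omega
    · intro x hx y hy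
      rw [conj_eq_iff]
      exact ⟨fun e => ⟨T.mul_mem (T.inv_mem hx) hy, e⟩, fun e => e.2⟩
    · intro x hx
      exact ⟨h.T2 x hx u hu, hne x (hb.T_le2 hx)⟩
    · rintro x ⟨hx, hx1, hxr⟩
      obtain ⟨m, hm, e⟩ := move h hnl hI hl P hu hu1 hur (P.V2R hx) hx1 hxr
      refine ⟨m, (T_iff h hnl hI hl P).2 ⟨hm.1.1, hm.1.2, hm.2, ?_⟩, e⟩
      exact norm_V2 h hI P hu hu1 hur hm.1.2 (by rw [e]; exact hx)
  · intro x hx y hy
    rw [conj_eq_iff]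
    have hxy := mul_mem (inv_mem hx) hy
    refine ⟨fun e => ⟨(T_iff h hnl hI hl P).2 ⟨hxy.1.1, hxy.1.2, hxy.2, ?_⟩, e⟩, fun e => e.2⟩
    refine norm_V2 h hI P hu hu1 hur hxy.1.2 ?_
    rw [mem_cz.1 e, mul_inv_cancel_right]
    exact hu
  · intro x hx
    have hxR : x ∈ normalizer (RR v₁ v₂ l : Set G) := P.nor ⟨hx.1.1, hx.2⟩
    exact ⟨(mem_normalizer_iff.1 hxR u).1 huR, hne x hx.1.2⟩
  · rintro x ⟨hx, hx1, hxr⟩
    exact move h hnl hI hl P hu hu1 hur hx hx1 hxr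

/-- `M = ⟨P₂, P₃⟩` -/
theorem gen_M : cz v₁ ⊓ cz v₂ ≤ PM v₁ v₂ V₁ ⊔ PM v₁ v₂ V₂ := by
  obtain ⟨u, hu, hu1, hur⟩ := exists_x h.symm
  have o₁ := P.rk.o
  have hs := sy_perp (sy_of o₁) o₁.r_mem
  have hb := h.toBase
  obtain ⟨hup, huy⟩ := pt_mem h.symm o₁ hb.symm hu hu1 hur
  -- an element of `R ∖ V₂`
  obtain ⟨x, hx, hxV⟩ : ∃ x ∈ RR v₁ v₂ l, x ∉ V₂ := by
    by_contra hcon
    push Not at hcon
    have h1 := Subgroup.card_le_of_le (show RR v₁ v₂ l ≤ V₂ from hcon)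
    have c8 : Nat.card (RR v₁ v₂ l) = 8 := P.rk.card_eq P.four
    rw [c8, h.card2] at h1
    omega
  obtain ⟨m, hm, e⟩ := move h hnl hI hl P hu hu1 hur hx (fun e => hxV (e ▸ one_mem _)) (fun e => hxV (e ▸ h.vV2))
  refine hs.perp_gen (p := u) (k := m) hup huy ?_ (mem_sup_left hm) ⟨hm.1.1, hm.1.2⟩ ?_ ?_
  · intro g hg e1
    apply mem_sup_right
    exact ⟨hg, (stab_iff h.symm o₁ hu hu1 hur hg).1 e1⟩
  · rw [e]
    exact P.rk.iso u (P.V2R hu) x hx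
  · rw [e]
    intro e1
    apply hxV
    have huN := o₁.sq u (P.rk.RN (P.V2R hu))
    have huxR : u * x ∈ RR v₁ v₂ l := mul_mem (P.V2R hu) hx
    have hcR : v₁ ∉ RR v₁ v₂ l := P.rk.cR
    have hrR : v₂ ∈ RR v₁ v₂ l := P.rk.rR
    have hx2 : x = u * (u * x) := by rw [← mul_assoc, huN, one_mul]
    rcases mem_yr' h.symm o₁ e1 with e2 | e2 | e2 | e2
    · rw [hx2, e2, mul_one]; exact hu
    · exfalso
      apply hcR
      rwa [e2] at huxR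
    · rw [hx2, e2]; exact mul_mem hu h.vV2
    · exfalso
      apply hcR
      have e3 := mul_mem (inv_mem hrR) huxR
      have e4 : v₂⁻¹ * (v₂ * v₁) = v₁ := by group
      rwa [e2, e4] at e3

end main

end Cfsg.Agent.Omega.IId.Pf.Idx
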