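import Cfsg.Agent.Omega.IId.Pf.Rad

/-!
# II.d, CASE 1, `q = 2`, case B: the parabolics

helper310.  `siegel` : Siegel elements of `N_M(R)`; `nC` : `N_{C₁}(R) = N_{C₁}(V₁)`, transitive on `R^#`;
`mem_T` : `T = N_M(V₁) ∩ N_M(V₂)`.
-/

set_option autoImplicit false
set_option linter.unusedSectionVars false
set_option linter.unusedVariables false

namespace Cfsg.Agent.Omega.IId.Pf.Par

open Cfsg.Agent.Omega.TV hiding z2
open Subgroup Cfsg Cfsg.Agent.ZN Cfsg.Agent.Omega.IId.PlaneSy Cfsg.Agent.Omega.IId.PlaneRk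
open Cfsg.Agent.Omega.IId.PlaneF Cfsg.Agent.Omega.IId.PlaneOf
open Cfsg.Agent.Omega.IId.One Cfsg.Agent.Omega.IId.SpSide
open Cfsg.Agent.Omega.MinPar
open Cfsg.Agent.Omega.NoFF.Basic
open Cfsg.Agent.Omega.IId.Pf.Rad
open Cfsg.Agent.Omega.IId.Two (le_normalizer_of)
open scoped Pointwise commutatorElement

universe u

variable {G : Type u} [Group G]

/-! ### Siegel elements -/

theorem siegel [Finite G] {C N R : Subgroup G} {r c : G} (h : Rk C N R r c) {a y t₀ : G} (ha : a ∈ N)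
    (ar : Bg C r a r = 0) (hy : y ∈ N) (hyR : ∀ t ∈ R, Bg C r y t = 0) (hQ : Qg C r y = 0)
    (ay : Bg C r a y = 0) (ht₀ : t₀ ∈ R) (at₀ : Bg C r a t₀ = 1) :
    ∃ m ∈ C ⊓ centralizer {r}, ∀ x ∈ R, (Bg C r a x = 0 ∧ m * x * m⁻¹ = x) ∨
      (Bg C r a x = 1 ∧ m * x * m⁻¹ = x * y) := by
  have hs := sy_of h.o
  have ht₀N := h.RN ht₀
  have hay : a * y ∈ N := mul_mem ha hy
  -- the two transvections
  obtain ⟨a', ha', haa, haB, g, hg, hgn⟩ := h.exists_tau ha ar ht₀N at₀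
  obtain ⟨b', hb', hbb, hbB, k, hk, hkn⟩ := h.exists_tau hay
    (by rw [h.o.add_left ha hy h.o.r_mem, ar, hyR r h.rR, add_zero]) ht₀N
    (by rw [h.o.add_left ha hy ht₀N, at₀, hyR t₀ ht₀, add_zero])
  have hyr : ∀ x ∈ R, Bg C r (a * y) x = Bg C r a x := fun x hx => by
    rw [h.o.add_left ha hy (h.RN hx), hyR x hx, add_zero]
  -- action on `R`
  have act : ∀ x ∈ R, (Bg C r a x = 0 ∧ k * g * x * (k * g)⁻¹ = x) ∨
      (Bg C r a x = 1 ∧ k * g * x * (k * g)⁻¹ = x * (a' * b')) := by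
    intro x hx
    have hxN := h.RN hx
    have e : k * g * x * (k * g)⁻¹ = k * (g * x * g⁻¹) * k⁻¹ := by group
    rw [e]
    rcases hgn x hxN with ⟨h1, h2⟩ | ⟨h1, h2⟩
    · left
      refine ⟨h1, ?_⟩
      rw [h2]
      rcases hkn x hxN with ⟨-, h3⟩ | ⟨h3, -⟩
      · exact h3
      · rw [hyr x hx, h1] at h3; exact absurd h3 (by decide)
    · right
      refine ⟨h1, ?_⟩
      rw [h2]
      rcases hkn _ (mul_mem hxN ha') with ⟨h3, -⟩ | ⟨-, h3⟩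
      · exfalso
        rw [h.o.add _ hay _ hxN _ ha', hyr x hx, h1, h.o.add_left ha hy ha', h.o.comm _ ha _ ha', haB a ha,
          h.o.self a ha, h.o.comm _ hy _ ha', haB y hy, ay] at h3
        exact absurd h3 (by decide)
      · rw [h3, mul_assoc]
  -- `a'b' = y`
  have hcN := h.o.c_mem
  have hab : a' * b' = y := by
    have hyy : a' * b' = y ∨ a' * b' = y * c := by
      have e1 : a = a' ∨ a = c * a' := by
        have haa' := h.o.sq a' ha'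
        rcases (mem_zp2 h.cc).1 haa with e | e
        · left
          calc a = a * a' * a' := by rw [mul_assoc, haa', mul_one]
            _ = a' := by rw [e, one_mul]
        · right
          calc a = a * a' * a' := by rw [mul_assoc, haa', mul_one]
            _ = c * a' := by rw [e]
      have e2 : b' = a * y ∨ b' = a * y * c := by
        have hay2 := h.o.sq _ hay
        rcases (mem_zp2 h.cc).1 hbb with e | e
        · left
          calc b' = a * y * (a * y * b') := by rw [← mul_assoc, hay2, one_mul]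
            _ = a * y := by rw [e, mul_one]
        · right
          calc b' = a * y * (a * y * b') := by rw [← mul_assoc, hay2, one_mul]
            _ = a * y * c := by rw [e]
      have haa' := h.o.sq a' ha'
      have hca : c * a' = a' * c := hs.mc hcN ha'
      have hcy : c * y = y * c := hs.mc hcN hy
      rcases e1 with e1 | e1 <;> rcases e2 with e2 | e2 <;> rw [e2]
      · left
        calc a' * (a * y) = a' * a * y := by group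
          _ = y := by rw [e1, haa', one_mul]
      · right
        calc a' * (a * y * c) = a' * a * y * c := by group
          _ = y * c := by rw [e1, haa', one_mul]
      · right
        calc a' * (a * y) = a' * a * y := by group
          _ = a' * (a' * c) * y := by rw [e1, hca]
          _ = (a' * a') * (c * y) := by group
          _ = y * c := by rw [haa', one_mul, hcy]
      · left
        calc a' * (a * y * c) = a' * a * y * c := by group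
          _ = a' * (a' * c) * y * c := by rw [e1, hca]
          _ = (a' * a') * (c * y) * c := by group
          _ = y * (c * c) := by rw [haa', one_mul, hcy]; group
          _ = y := by rw [h.cc, mul_one]
    rcases hyy with e | e
    · exact e
    · exfalso
      rcases act t₀ ht₀ with ⟨h1, -⟩ | ⟨-, h2⟩
      · rw [at₀] at h1; exact absurd h1 (by decide)
      · have hyc : y * c ∈ N := mul_mem hy hcN
        have h3 := h.o.inv _ (mul_mem hk hg).1 t₀ ht₀N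
        rw [h2, e, GOrth.Q_mul, h.o.Qmulc hy, hQ, h.o.add _ ht₀N _ hy _ hcN, h.o.comm _ ht₀N _ hy, hyR t₀ ht₀,
          h.o.comm _ ht₀N _ hcN, h.o.Bc t₀ ht₀N] at h3
        have h4 : ∀ u : ZMod 2, u + (0 + 1) + (0 + 0) ≠ u := by decide
        exact h4 _ h3
  rw [hab] at act
  exact ⟨k * g, mul_mem hk hg, act⟩

/-- `x → x y` on `R`, fixing `r` and `y`, for `x ∉ ⟨r, y⟩` -/
theorem siegel' [Finite G] {C N R : Subgroup G} {r c : G} (h : Rk C N R r c) (h4 : 4 < Nat.card R) {x y : G}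
    (hx : x ∈ R) (hy : y ∈ R) (hx1 : x ≠ 1) (hxr : x ≠ r) (hxy : x ≠ y) (hxyr : x * r ≠ y) :
    ∃ m ∈ C ⊓ centralizer {r}, m ∈ normalizer (R : Set G) ∧ m * y * m⁻¹ = y ∧ m * x * m⁻¹ = x * y ∧
      ∀ t ∈ R, m * t * m⁻¹ = t ∨ m * t * m⁻¹ = t * y := by
  have hs := sy_of h.o
  have hxN := h.RN hx
  have hyN := h.RN hy
  have hrN := h.o.r_mem
  have sqx := h.o.sq x hxN
  have eqv : ∀ t u : G, u ∈ N → t * u = 1 → t = u := fun t u hu e => by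
    calc t = t * (u * u) := by rw [h.o.sq u hu, mul_one]
      _ = u := by rw [← mul_assoc, e, one_mul]
  have nz : ∀ t ∈ R, t ≠ 1 → t ∉ zpowers c := fun t ht ht1 => h.not_zp ht ht1
  obtain ⟨a, ha, a1, a2, a3⟩ := hs.sep3 hxN hrN hyN (nz x hx hx1)
    (nz _ (mul_mem hx h.rR) fun e => hxr (eqv _ _ hrN e)) (nz _ (mul_mem hx hy) fun e => hxy (eqv _ _ hyN e))
    (nz _ (mul_mem (mul_mem hx h.rR) hy) fun e => hxyr (eqv _ _ hyN e))
  rw [h.o.comm _ hxN _ ha] at a1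
  rw [h.o.comm _ hrN _ ha] at a2
  rw [h.o.comm _ hyN _ ha] at a3
  obtain ⟨m, hm, hmx⟩ := siegel h ha a2 hyN (fun t ht => h.iso y hy t ht) (Q_zero_rk h h4 hy) a3 hx a1
  refine ⟨m, hm, ?_, ?_, ?_, ?_⟩
  · apply Cfsg.Agent.MinSimple.VModule.mem_normalizer_of_map_le
    rintro _ ⟨t, ht, rfl⟩
    show m * t * m⁻¹ ∈ R
    rcases hmx t ht with ⟨-, h1⟩ | ⟨-, h1⟩
    · rw [h1]; exact ht
    · rw [h1]; exact mul_mem ht hy
  · rcases hmx y hy with ⟨-, h1⟩ | ⟨h1, -⟩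
    · exact h1
    · rw [a3] at h1; exact absurd h1 (by decide)
  · rcases hmx x hx with ⟨h1, -⟩ | ⟨-, h1⟩
    · rw [a1] at h1; exact absurd h1 (by decide)
    · exact h1
  · intro t ht
    rcases hmx t ht with ⟨-, h1⟩ | ⟨-, h1⟩
    · exact Or.inl h1
    · exact Or.inr h1

/-- the reflection in the vector `y c`, `y` singular -/
theorem tau [Finite G] {C N : Subgroup G} {r c : G} (o : GOrth C N r c) {y : G} (hy : y ∈ N) (hy1 : y ≠ 1)
    (hQ : Qg C r y = 0) : ∃ g ∈ C, ∀ n ∈ N, (Bg C r y n = 0 ∧ g * n * g⁻¹ = n) ∨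
      (Bg C r y n = 1 ∧ g * n * g⁻¹ = n * (y * c)) := o.refl y hy hy1 hQ

section main

variable [Finite G] {T V₁ V₂ L₁ L₂ : Subgroup G} {v₁ v₂ s : G}

/-- the plane -/
abbrev RR (v₁ v₂ l : G) : Subgroup G := ⁅nc v₁ {v₂}, MulAut.conj l • nc v₁ {v₂}⁆

/-- `N_M(R) ≤ N(V₁)` -/
theorem nM (h : One T V₁ V₂ L₁ L₂ v₁ v₂ s) (hI : ∃ x ∈ nc v₁ {v₂}, ∃ y ∈ nc v₂ {v₁}, x * y ≠ y * x)
    {v' w l : G} (P : Plane V₁ V₂ v₁ v₂ v' w l) {m : G} (hm1 : m ∈ cz v₁) (hm2 : m ∈ cz v₂)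
    (hmR : m ∈ normalizer (RR v₁ v₂ l : Set G)) : m ∈ normalizer (V₁ : Set G) := by
  by_contra hmV
  have hb := h.toBase
  have o₂ := h.symm.orth (One.hI_symm hI)
  have S := P.side
  have hv' := S.v'V
  have hv'1 := S.v'1
  have hv'v : v' ≠ v₁ := fun e => S.ne e.symm
  have hs := sy_perp (sy_of o₂) o₂.r_mem
  obtain ⟨hxp, hxy⟩ := pt_mem h o₂ hb hv' hv'1 hv'v
  obtain ⟨m₁, hm₁, m₂, hm₂, S₁, hS₁, S₂, hS₂, hr₂, hmS₁, hmS₂, hmf₂, hc₁, hc₂, -⟩ := P.rk.two_steps P.four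
  have hpos : 0 < Nat.card S₂ := Nat.card_pos
  have n1 := P.rk.not_norm hS₁ hmS₁ (by omega)
  have n2 := P.rk.not_norm hS₂ hmS₂ (by omega)
  have hst : ∀ k ∈ cz v₁, k ∈ cz v₂ → (k * v' * k⁻¹ * v' ∈ yr (sy_of o₂) o₂.r_mem ↔ k ∈ normalizer (V₁ : Set G)) :=
    fun k hk1 hk2 => stab_iff h o₂ hv' hv'1 hv'v ⟨hk2, hk1⟩
  have dn : ∀ m m', Sy.DC (cz v₂ ⊓ centralizer {v₁}) (yr (sy_of o₂) o₂.r_mem) v' m m' →
      DN (cz v₁) (RR v₁ v₂ l) m m' := by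
    rintro m m' ⟨a, ha, b, hb', ea, eb, e⟩
    exact ⟨a, ⟨ha.2, P.nor ⟨ha.2, (hst a ha.2 ha.1).1 ea⟩⟩, b, ⟨hb'.2, P.nor ⟨hb'.2, (hst b hb'.2 hb'.1).1 eb⟩⟩, e⟩
  have c0 : II (RR v₁ v₂ l) m = RR v₁ v₂ l := by
    ext t
    exact ⟨fun ht => ht.1, fun ht => ⟨ht, (mem_normalizer_iff.1 hmR t).1 ht⟩⟩
  have c1 : II (RR v₁ v₂ l) m₁ = S₁ := P.rk.card_II hS₁ hmS₁
  have c2 : II (RR v₁ v₂ l) m₂ = S₂ := P.rk.card_II hS₂ hmS₂
  have hc : Nat.card (RR v₁ v₂ l) = 2 * Nat.card S₁ := hc₁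
  rcases hs.pigeon hxp hxy ⟨hm2, hm1⟩ ⟨hm₁.2, hm₁.1⟩ ⟨hm₂.2, hm₂.1⟩ (fun e => hmV ((hst m hm1 hm2).1 e))
    (fun e => n1 (P.nor ⟨hm₁.1, (hst m₁ hm₁.1 hm₁.2).1 e⟩)) (fun e => n2 (P.nor ⟨hm₂.1, (hst m₂ hm₂.1 hm₂.2).1 e⟩))
    with h5 | h5 | h5
  · have := (dn _ _ h5).card
    rw [c0, c1] at this
    omega
  · have := (dn _ _ h5).card
    rw [c0, c2] at this
    omega
  · have := (dn _ _ h5).card
    rw [c1, c2] at this
    omega

/-- `N_{C₁}(V₁)` is transitive on `R^#`. -/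
theorem transR (h : One T V₁ V₂ L₁ L₂ v₁ v₂ s) (hI : ∃ x ∈ nc v₁ {v₂}, ∃ y ∈ nc v₂ {v₁}, x * y ≠ y * x)
    {v' w l : G} (P : Plane V₁ V₂ v₁ v₂ v' w l) {t : G} (ht : t ∈ RR v₁ v₂ l) (ht1 : t ≠ 1) :
    ∃ n ∈ cz v₁ ⊓ normalizer (V₁ : Set G), n * t * n⁻¹ = v₂ := by
  have hb := h.toBase
  have hL2 : ∀ k ∈ L₂, k ∈ cz v₁ ⊓ normalizer (V₁ : Set G) := fun k hk =>
    ⟨hb.L2_le hk, le_normalizer_of (fun k hk v hv => by
      rw [h.L21 k hk v hv, mul_inv_cancel_right]; exact hv) hk⟩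
  by_cases htV : t ∈ V₂
  · obtain ⟨k, hk, e⟩ := h.t2 t htV ht1 v₂ h.vV2 h.v2
    exact ⟨k, hL2 k hk, e⟩
  · obtain ⟨u, hu, hu1, huv⟩ := exists_x h.symm
    have htN := P.rk.RN ht
    have htt := P.rk.o.sq t htN
    obtain ⟨m, hm, hmR, -, hmt, -⟩ := siegel' P.rk P.four (x := t) (y := t * u) ht (mul_mem ht (P.V2R hu)) ht1
      (fun e => htV (e ▸ h.vV2)) (fun e => hu1 (by
        calc u = t * (t * u) := by rw [← mul_assoc, htt, one_mul]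
          _ = 1 := by rw [← e, htt])) (fun e => huv (mul_left_cancel e).symm)
    rw [← mul_assoc, htt, one_mul] at hmt
    have hmV := nM h hI P hm.1 hm.2 hmR
    obtain ⟨k, hk, e⟩ := h.t2 u hu hu1 v₂ h.vV2 h.v2
    refine ⟨k * m, mul_mem (hL2 k hk) ⟨hm.1, hmV⟩, ?_⟩
    have e2 : k * m * t * (k * m)⁻¹ = k * (m * t * m⁻¹) * k⁻¹ := by group
    rw [e2, hmt, e]

/-- `N_{C₁}(R) ≤ N(V₁)` -/
theorem nC (h : One T V₁ V₂ L₁ L₂ v₁ v₂ s) (hI : ∃ x ∈ nc v₁ {v₂}, ∃ y ∈ nc v₂ {v₁}, x * y ≠ y * x)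
    {v' w l : G} (P : Plane V₁ V₂ v₁ v₂ v' w l) {g : G} (hg : g ∈ cz v₁)
    (hgR : g ∈ normalizer (RR v₁ v₂ l : Set G)) : g ∈ normalizer (V₁ : Set G) := by
  have h1 : g * v₂ * g⁻¹ ∈ RR v₁ v₂ l := (mem_normalizer_iff.1 hgR _).1 P.rk.rR
  have h2 : g * v₂ * g⁻¹ ≠ 1 := fun e => h.v2 (by
    calc v₂ = g⁻¹ * (g * v₂ * g⁻¹) * g := by group
      _ = 1 := by rw [e]; group)
  obtain ⟨n, hn, e⟩ := transR h hI P h1 h2
  have h3 : n * g ∈ cz v₂ := by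
    rw [mem_cz]
    have e2 : n * g * v₂ * (n * g)⁻¹ = v₂ := by
      calc n * g * v₂ * (n * g)⁻¹ = n * (g * v₂ * g⁻¹) * n⁻¹ := by group
        _ = v₂ := e
    exact mul_inv_eq_iff_eq_mul.1 e2
  have h4 := nM h hI P (mul_mem hn.1 hg) h3 (mul_mem (P.nor hn) hgR)
  have h5 := (normalizer (V₁ : Set G)).mul_mem ((normalizer (V₁ : Set G)).inv_mem hn.2) h4
  rwa [inv_mul_cancel_left] at h5

/-- `V₂` has index 2 in `R`. -/
theorem quo_V2 (h : One T V₁ V₂ L₁ L₂ v₁ v₂ s) {v' w l : G} (P : Plane V₁ V₂ v₁ v₂ v' w l) {x y : G}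
    (hx : x ∈ RR v₁ v₂ l) (hy : y ∈ RR v₁ v₂ l) (hx2 : x ∉ V₂) (hy2 : y ∉ V₂) : x * y ∈ V₂ := by
  have h8 := P.rk.card_eq P.four
  have h5 : (V₂.subgroupOf (RR v₁ v₂ l)).index = 2 := by
    have h6 := (V₂.subgroupOf (RR v₁ v₂ l)).card_mul_index
    rw [Nat.card_congr (subgroupOfEquivOfLe P.V2R).toEquiv, h8, h.card2] at h6
    omega
  have h6 := (mul_mem_iff_of_index_two h5 (a := ⟨x, hx⟩) (b := ⟨y, hy⟩)).2
    ⟨fun e => absurd e hx2, fun e => absurd e hy2⟩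
  exact h6

/-- **`T = N_M(V₁) ∩ N_M(V₂)`** -/
theorem mem_T (h : One T V₁ V₂ L₁ L₂ v₁ v₂ s) (hnl : NonLoc (cz v₁) (cz v₂))
    (hI : ∃ x ∈ nc v₁ {v₂}, ∃ y ∈ nc v₂ {v₁}, x * y ≠ y * x)
    {v' w l : G} (hl : l ∈ L₁) (P : Plane V₁ V₂ v₁ v₂ v' w l) :
    T = cz v₁ ⊓ cz v₂ ⊓ normalizer (V₁ : Set G) ⊓ normalizer (V₂ : Set G) := by
  have hb := h.toBase
  have hle : T ≤ cz v₁ ⊓ cz v₂ ⊓ normalizer (V₁ : Set G) ⊓ normalizer (V₂ : Set G) :=
    le_inf (le_inf hb.T_leM hb.T_norm1) hb.T_norm2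
  refine le_antisymm hle (h.syl1 _ (pGroup_of fun g hg ho => ?_) hle fun x hx => mem_cz.1 hx.1.1.1)
  obtain ⟨⟨⟨hg1, hg2⟩, hgV1⟩, hgV2⟩ := hg
  have hgR : g ∈ normalizer (RR v₁ v₂ l : Set G) := P.nor ⟨hg1, hgV1⟩
  -- `g` fixes `V₂`
  have fV : ∀ x ∈ V₂, g * x * g⁻¹ = x := by
    intro x hx
    have h1 := (mem_normalizer_iff.1 hgV2 x).1 hx
    rcases hb.symm.conj1 hg2 h1 hx with h2 | h2
    · exact h2
    · refine odd_fix (w := v₂) ho ?_ ?_ hb.vq2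
      · rw [h2, h.c2 _ h.vV2 _ hx]
      · rw [mem_cz.1 hg2, mul_inv_cancel_right]
  have fR : ∀ x ∈ RR v₁ v₂ l, g * x * g⁻¹ = x := by
    intro x hx
    by_cases hxV : x ∈ V₂
    · exact fV x hxV
    have h1 := (mem_normalizer_iff.1 hgR x).1 hx
    have h2 : g * x * g⁻¹ ∉ V₂ := fun e => hxV ((mem_normalizer_iff.1 hgV2 x).2 e)
    have hxx := P.rk.o.sq x (P.rk.RN hx)
    have h3 := quo_V2 h P hx h1 hxV h2
    refine odd_fix (w := x * (g * x * g⁻¹)) ho ?_ (fV _ h3) (h.q2 _ h3)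
    rw [← mul_assoc, hxx, one_mul]
  have fN := odd_cent P.rk.o P.rk.RN (fun y hy hyR => perp_of_rk P.rk P.four hy hyR) hg1 ho fR
  have h1 : g ∈ ZN.o2 (cz v₁) := by
    rw [← F1_eq h hnl hI hl P]
    exact mem_inf.2 ⟨hg1, mem_centralizer_iff.2 fun x hx => (mul_inv_eq_iff_eq_mul.1 (fN x hx)).symm⟩
  obtain ⟨k, hk⟩ := isPGroup_o2 (cz v₁) ⟨g, h1⟩
  have h2 : g ^ 2 ^ k = 1 := congrArg Subtype.val hk
  have h3 := (Nat.dvd_prime_pow Nat.prime_two).1 (orderOf_dvd_of_pow_eq_one h2)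
  obtain ⟨j, -, hj⟩ := h3
  rcases Nat.eq_zero_or_pos j with h0 | h0
  · rw [h0, pow_zero, orderOf_eq_one_iff] at hj
    exact hj
  · exfalso
    rw [hj] at ho
    exact (Nat.not_odd_iff_even.2 (Nat.even_pow.2 ⟨even_two, h0.ne'⟩)) ho

end main

end Cfsg.Agent.Omega.IId.Pf.Par
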