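import Cfsg.Agent.Omega.IId.Pf.Geo

/-!
# II.d, CASE 1, `q = 2`, case B: the quadrangle

helper310.  The totally singular subgroups of order 4 and 8 of `N₁` which contain `v₂`: a generalised quadrangle
(`pu`, `quad_q`), on which `M` acts flag-transitively (`flags`).
-/

set_option autoImplicit false
set_option linter.unusedSectionVars false
set_option linter.unusedVariables false

namespace Cfsg.Agent.Omega.IId.Pf.Quad

open Cfsg.Agent.Omega.TV hiding z2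
open Subgroup Cfsg Cfsg.Agent.ZN Cfsg.Agent.Omega.IId.PlaneSy Cfsg.Agent.Omega.IId.PlaneRk
open Cfsg.Agent.Omega.IId.PlaneF Cfsg.Agent.Omega.IId.PlaneOf
open Cfsg.Agent.Omega.IId.One Cfsg.Agent.Omega.IId.SpSide
open Cfsg.Agent.Omega.IId.SpForm (two_mul_card_le four_mem)
open Cfsg.Agent.Omega.MinPar
open Cfsg.Agent.Omega.NoFF.Basic
open Cfsg.Agent.Omega.IId.Pf.Rad Cfsg.Agent.Omega.IId.Pf.Par Cfsg.Agent.Omega.IId.Pf.Idx
open Cfsg.Agent.Omega.IId.Pf.Geo Cfsg.Agent.Omega.IId.Pf.Dual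
open Cfsg.Agent.ParSys Cfsg.Agent.ParSys.Free Cfsg.Agent.ParSys.RankTwo Cfsg.Agent.ParSys.FlagGP
open scoped Pointwise commutatorElement

universe u

variable {G : Type u} [Group G]

/-! ### Adjoining an involution -/

/-- `A ∪ Ay` -/
def ad (A : Subgroup G) {y : G} (hy : y * y = 1) (hc : ∀ a ∈ A, a * y = y * a) : Subgroup G where
  carrier := {t | t ∈ A ∨ t * y ∈ A}
  one_mem' := Or.inl (one_mem _)
  mul_mem' := by
    rintro a b (ha | ha) (hb | hb)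
    · exact Or.inl (mul_mem ha hb)
    · exact Or.inr (by rw [mul_assoc]; exact mul_mem ha hb)
    · refine Or.inr ?_
      rw [mul_assoc, hc b hb, ← mul_assoc]
      exact mul_mem ha hb
    · left
      have e : a * b = a * y * (b * y) := by
        have h1 := hc _ hb
        calc a * b = a * (b * y * y) := by rw [mul_assoc b, hy, mul_one]
          _ = a * (y * (b * y)) := by rw [h1]
          _ = a * y * (b * y) := by group
      rw [e]
      exact mul_mem ha hb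
  inv_mem' := by
    rintro a (ha | ha)
    · exact Or.inl (inv_mem ha)
    · refine Or.inr ?_
      have h1 := inv_mem ha
      have hyi : y⁻¹ = y := inv_eq_of_mul_eq_one_left hy
      rw [mul_inv_rev, hyi] at h1
      have h2 := hc _ h1
      have e : a⁻¹ * y = y * a⁻¹ := by
        have e1 : y * a⁻¹ * y = y * (y * a⁻¹) := h2
        rw [← mul_assoc, hy, one_mul] at e1
        calc a⁻¹ * y = y * a⁻¹ * y * y := by rw [e1]
          _ = y * a⁻¹ := by rw [mul_assoc, hy, mul_one]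
      rw [e]; exact h1

theorem mem_ad {A : Subgroup G} {y : G} {hy : y * y = 1} {hc : ∀ a ∈ A, a * y = y * a} {t : G} :
    t ∈ ad A hy hc ↔ t ∈ A ∨ t * y ∈ A := Iff.rfl

theorem card_ad [Finite G] {A : Subgroup G} {y : G} {hy : y * y = 1} {hc : ∀ a ∈ A, a * y = y * a} (hyA : y ∉ A) :
    Nat.card (ad A hy hc) = 2 * Nat.card A := by
  have hle : A ≤ ad A hy hc := fun a ha => Or.inl ha
  apply le_antisymm
  · have h1 := card_le_two_mul (K := A) (H := ad A hy hc) (fun a ha b hb haA hbA => by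
      have ha' : a * y ∈ A := (mem_ad.1 ha).resolve_left haA
      have hb' : b * y ∈ A := (mem_ad.1 hb).resolve_left hbA
      have h2 := mul_mem (inv_mem ha') hb'
      -- `(ay)⁻¹(by) = y a⁻¹ b y`
      have h3 := hc _ h2
      have e : (a * y)⁻¹ * (b * y) = y⁻¹ * (a⁻¹ * b) * y := by group
      have hyi : y⁻¹ = y := inv_eq_of_mul_eq_one_left hy
      have e2 : a⁻¹ * b = y * ((a * y)⁻¹ * (b * y)) * y := by
        rw [e, hyi]
        calc a⁻¹ * b = (y * y) * (a⁻¹ * b) * (y * y) := by rw [hy, one_mul, mul_one]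
          _ = y * (y * (a⁻¹ * b) * y) * y := by group
      rw [e2, ← h3, mul_assoc, hy, mul_one]
      exact h2)
    rwa [inf_eq_left.2 hle] at h1
  · exact two_mul_card_le hle ⟨y, Or.inr (by rw [hy]; exact one_mem _), hyA⟩

/-! ### The quadrangle -/

section geo

variable [Finite G] {C N : Subgroup G} {r c : G} (o : GOrth C N r c)

/-- totally singular subgroups of order `n` containing `r` -/
def TS (C N : Subgroup G) (r : G) (n : ℕ) : Set (Ln G) := fun L =>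
  r ∈ L.val ∧ L.val ≤ N ∧ Nat.card L.val = n ∧ ∀ x ∈ L.val, Qg C r x = 0

theorem mem_TS {n : ℕ} {L : Ln G} :
    L ∈ TS C N r n ↔ r ∈ L.val ∧ L.val ≤ N ∧ Nat.card L.val = n ∧ ∀ x ∈ L.val, Qg C r x = 0 := Iff.rfl

def inc2 (L L' : Ln G) : Prop := L.val ≤ L'.val

theorem B_of_Q {A : Subgroup G} (hQ : ∀ x ∈ A, Qg C r x = 0) {x y : G} (hx : x ∈ A) (hy : y ∈ A) : Bg C r x y = 0 := by
  unfold Bg
  rw [hQ x hx, hQ y hy, hQ _ (mul_mem hx hy), add_zero, add_zero]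

include o

theorem coN {x y : G} (hx : x ∈ N) (hy : y ∈ N) : x * y = y * x := (sy_of o).mc hx hy

theorem Q_ad {A : Subgroup G} (hA : A ≤ N) (hQ : ∀ x ∈ A, Qg C r x = 0) {y : G} (hy : y ∈ N) (hQy : Qg C r y = 0)
    (hB : ∀ x ∈ A, Bg C r y x = 0) {t : G} (ht : t ∈ ad A (o.sq y hy) fun a ha => coN o (hA ha) hy) :
    t ∈ N ∧ Qg C r t = 0 := by
  rcases mem_ad.1 ht with ht | ht
  · exact ⟨hA ht, hQ t ht⟩
  · have e : t = t * y * y := by rw [mul_assoc, o.sq y hy, mul_one]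
    have h1 := hB _ ht
    rw [e]
    refine ⟨mul_mem (hA ht) hy, ?_⟩
    rw [GOrth.Q_mul, hQ _ ht, hQy, o.comm _ (hA ht) _ hy, h1]
    decide

theorem max8 (hN : Nat.card N = 128) {L : Ln G} (hL : L ∈ TS C N r 8) {y : G} (hy : y ∈ N) (hQy : Qg C r y = 0)
    (hB : ∀ t ∈ L.val, Bg C r y t = 0) : y ∈ L.val := by
  by_contra hyL
  set A := ad L.val (o.sq y hy) (fun a ha => coN o (hL.2.1 ha) hy) with hA
  have hAQ : ∀ t ∈ A, t ∈ N ∧ Qg C r t = 0 := fun t ht => Q_ad o hL.2.1 hL.2.2.2 hy hQy hB ht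
  have h1 : Nat.card A = 2 * 8 := by rw [hA, card_ad hyL, hL.2.2.1]
  have h2 := card_iso o (A := A) (fun t ht => (hAQ t ht).1) (fun e => by
    have := (hAQ c e).2
    rw [o.Qc] at this
    exact absurd this (by decide)) (fun x hx y hy => B_of_Q (fun t ht => (hAQ t ht).2) hx hy)
  rw [h1, hN] at h2
  omega

theorem pu {p p' l l' : Ln G} (hp : p ∈ TS C N r 4) (hp' : p' ∈ TS C N r 4) (hpp : p ≠ p') (hl : l ∈ TS C N r 8)
    (hl' : l' ∈ TS C N r 8) (h1 : inc2 p l) (h2 : inc2 p' l) (h3 : inc2 p l') (h4 : inc2 p' l') : l = l' := by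
  obtain ⟨y, hy, hyp⟩ : ∃ y ∈ p'.val, y ∉ p.val := by
    by_contra hcon
    push Not at hcon
    have h5 : p'.val ≤ p.val := hcon
    exact hpp (ln_ext (Subgroup.eq_of_le_of_card_ge h5 (by rw [hp.2.2.1, hp'.2.2.1])).symm)
  have h5 := two_mul_card_le (K := p.val) (H := l.val ⊓ l'.val) (le_inf h1 h3) ⟨y, ⟨h2 hy, h4 hy⟩, hyp⟩
  rw [hp.2.2.1] at h5
  have h6 : l.val ⊓ l'.val = l.val := Subgroup.eq_of_le_of_card_ge inf_le_left (by rw [hl.2.2.1]; omega)
  have h7 : l.val ⊓ l'.val = l'.val := Subgroup.eq_of_le_of_card_ge inf_le_right (by rw [hl'.2.2.1]; omega)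
  exact ln_ext (h6.symm.trans h7)

theorem quad_q (hr1 : r ≠ 1) (hN : Nat.card N = 128) {p l : Ln G} (hp : p ∈ TS C N r 4) (hl : l ∈ TS C N r 8)
    (hpl : ¬ inc2 p l) : ∃ q ∈ TS C N r 4, ∃ m ∈ TS C N r 8, inc2 p m ∧ inc2 q m ∧ inc2 q l ∧
      ∀ q' ∈ TS C N r 4, ∀ m' ∈ TS C N r 8, inc2 p m' → inc2 q' m' → inc2 q' l → q' = q ∧ m' = m := by
  obtain ⟨y, hy, hyl⟩ := SetLike.not_le_iff_exists.1 hpl
  have hyN := hp.2.1 hy
  have hQy := hp.2.2.2 y hy
  have hadd : ∀ x ∈ l.val, ∀ z ∈ l.val, Bg C r y (x * z) = Bg C r y x + Bg C r y z := fun x hx z hz =>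
    o.add y hyN x (hl.2.1 hx) z (hl.2.1 hz)
  obtain ⟨t, ht, hyt⟩ : ∃ t ∈ l.val, Bg C r y t = 1 := by
    by_contra hcon
    push Not at hcon
    exact hyl (max8 o hN hl hyN hQy fun t ht => (z2 _).resolve_right (hcon t ht))
  have hc := card_ker' (A := l.val) (f := Bg C r y) hadd ⟨t, ht, hyt⟩
  set q : Subgroup G := ker l.val (Bg C r y) hadd with hq
  have hql : q ≤ l.val := fun x hx => hx.1
  have hqB : ∀ x ∈ q, Bg C r y x = 0 := fun x hx => hx.2
  have hqN : q ≤ N := hql.trans hl.2.1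
  have c4 : Nat.card q = 4 := by rw [hl.2.2.1] at hc; omega
  have hrq : r ∈ q := ⟨hl.1, B_of_Q hp.2.2.2 hy hp.1⟩
  have hq4 : (⟨q⟩ : Ln G) ∈ TS C N r 4 := ⟨hrq, hqN, c4, fun x hx => hl.2.2.2 x (hql hx)⟩
  set m : Subgroup G := ad q (o.sq y hyN) (fun a ha => coN o (hqN ha) hyN) with hm
  have hmQ : ∀ t ∈ m, t ∈ N ∧ Qg C r t = 0 := fun t ht => Q_ad o hqN (fun x hx => hl.2.2.2 x (hql hx)) hyN hQy hqB ht
  have hqm : q ≤ m := fun x hx => Or.inl hx
  have hym : y ∈ m := Or.inr (by rw [o.sq y hyN]; exact one_mem _)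
  have c8 : Nat.card m = 8 := by rw [hm, card_ad (fun e => hyl (hql e)), c4]
  have hm8 : (⟨m⟩ : Ln G) ∈ TS C N r 8 := ⟨hqm hrq, fun t ht => (hmQ t ht).1, c8, fun t ht => (hmQ t ht).2⟩
  refine ⟨⟨q⟩, hq4, ⟨m⟩, hm8, ?_, hqm, hql, ?_⟩
  · intro x hx
    have hy1 : y ≠ 1 := fun e => hyl (e ▸ one_mem _)
    have hry : r ≠ y := fun e => hyl (e ▸ hl.1)
    rcases four_mem hp.2.2.1 (fun x hx => o.sq x (hp.2.1 hx)) hp.1 hy hr1 hy1 hry hx with h1 | h1 | h1 | h1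
    · rw [h1]; exact one_mem _
    · rw [h1]; exact hqm hrq
    · rw [h1]; exact hym
    · rw [h1]; exact mul_mem (hqm hrq) hym
  · intro q' hq' m' hm' h1 h2 h3
    have h4 : q' = ⟨q⟩ := by
      apply ln_ext
      refine Subgroup.eq_of_le_of_card_ge (fun x hx => ⟨h3 hx, B_of_Q hm'.2.2.2 (h1 hy) (h2 hx)⟩) ?_
      show Nat.card q ≤ _
      rw [c4, hq'.2.2.1]
    refine ⟨h4, ?_⟩
    apply ln_ext
    refine (Subgroup.eq_of_le_of_card_ge ?_ ?_).symm
    · intro t ht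
      have hq'm : q ≤ m'.val := by
        rw [h4] at h2
        exact h2
      have ht2 : t ∈ q ∨ t * y ∈ q := ht
      rcases ht2 with h5 | h5
      · exact hq'm h5
      · have e : t = t * y * y⁻¹ := by group
        rw [e]
        exact mul_mem (hq'm h5) (inv_mem (h1 hy))
    · show Nat.card m'.val ≤ Nat.card m
      rw [c8, hm'.2.2.1]

end geo

section main

variable [Finite G] {T V₁ V₂ L₁ L₂ : Subgroup G} {v₁ v₂ s : G} {I : Type*} {PP : I → Subgroup G} {i j : I}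
  (h : One T V₁ V₂ L₁ L₂ v₁ v₂ s) (hnl : NonLoc (cz v₁) (cz v₂))
  (hI : ∃ x ∈ nc v₁ {v₂}, ∃ y ∈ nc v₂ {v₁}, x * y ≠ y * x) {v' w l : G} (hl : l ∈ L₁)
  (P : Plane V₁ V₂ v₁ v₂ v' w l)

include h hnl hI hl P

theorem V2_TS : (⟨V₂⟩ : Ln G) ∈ TS (cz v₁) (nc v₁ {v₂}) v₂ 4 :=
  ⟨h.vV2, h.toBase.V2_le_N1, h.card2, fun x hx => Q_zero h h.toBase hx⟩

theorem R_TS : (⟨RR v₁ v₂ l⟩ : Ln G) ∈ TS (cz v₁) (nc v₁ {v₂}) v₂ 8 :=
  ⟨P.rk.rR, P.rk.RN, P.rk.card_eq P.four, fun x hx => Q_zero_rk P.rk P.four hx⟩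

/-- `N_M(V₂)` is transitive on the totally singular planes containing `V₂`. -/
theorem move_plane {L : Ln G} (hL : L ∈ TS (cz v₁) (nc v₁ {v₂}) v₂ 8) (hVL : V₂ ≤ L.val) :
    ∃ g ∈ PM v₁ v₂ V₂, MulAut.conj g • RR v₁ v₂ l = L.val := by
  have o := P.rk.o
  have hN := P.rk.card_N P.four
  have c8 : Nat.card (RR v₁ v₂ l) = 8 := P.rk.card_eq P.four
  obtain ⟨x', hx', hx'V⟩ : ∃ x ∈ L.val, x ∉ V₂ := by
    by_contra hcon
    push Not at hcon
    have h1 := Subgroup.card_le_of_le (show L.val ≤ V₂ from hcon)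
    rw [hL.2.2.1, h.card2] at h1
    omega
  obtain ⟨x, hx, hxV⟩ : ∃ x ∈ RR v₁ v₂ l, x ∉ V₂ := by
    by_contra hcon
    push Not at hcon
    have h1 := Subgroup.card_le_of_le (show RR v₁ v₂ l ≤ V₂ from hcon)
    rw [c8, h.card2] at h1
    omega
  have hxN := P.rk.RN hx
  have hx'N := hL.2.1 hx'
  have hVR := P.V2R
  have qR : ∀ t ∈ RR v₁ v₂ l, t ∉ V₂ → x * t ∈ V₂ := fun t ht htV =>
    quo_two hVR (by rw [h.card2]; exact c8) hx ht hxV htV
  by_cases hx'R : x' ∈ RR v₁ v₂ l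
  · refine ⟨1, one_mem _, ?_⟩
    rw [map_one, one_smul]
    refine Subgroup.eq_of_le_of_card_ge (fun t ht => ?_) (by rw [hL.2.2.1]; exact c8.symm.le)
    by_cases htV : t ∈ V₂
    · exact hVL htV
    · have h1 := quo_two hVR (by rw [h.card2]; exact c8) hx'R ht hx'V htV
      have e : t = x'⁻¹ * (x' * t) := by group
      rw [e]
      exact mul_mem (inv_mem hx') (hVL h1)
  have hVN : V₂ ≤ nc v₁ {v₂} := h.toBase.V2_le_N1
  have hB : Bg (cz v₁) v₂ x x' = 1 := by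
    refine (z2 _).resolve_left fun e => hx'R (P.rk.sing P.four hx'N (fun t ht => ?_) (hL.2.2.2 x' hx'))
    have hV0 : ∀ t ∈ V₂, Bg (cz v₁) v₂ x' t = 0 := fun t ht => B_of_Q hL.2.2.2 hx' (hVL ht)
    by_cases htV : t ∈ V₂
    · exact hV0 t htV
    · have h1 := qR t ht htV
      have e2 : t = x * (x * t) := by rw [← mul_assoc, o.sq x hxN, one_mul]
      rw [e2, o.add x' hx'N x hxN _ (hVN h1), o.comm _ hx'N _ hxN, e, hV0 _ h1, add_zero]
  -- the reflection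
  have hcN := o.c_mem
  have hcc := P.rk.cc
  have hxx' : x * x' ∈ nc v₁ {v₂} := mul_mem hxN hx'N
  have hzN : x * x' * v₁ ∈ nc v₁ {v₂} := mul_mem hxx' hcN
  have hQz : Qg (cz v₁) v₂ (x * x' * v₁) = 0 := by
    rw [o.Qmulc hxx', GOrth.Q_mul, Q_zero_rk P.rk P.four hx, hL.2.2.2 x' hx', hB]
    decide
  have hBz : ∀ n ∈ nc v₁ {v₂}, Bg (cz v₁) v₂ (x * x' * v₁) n = Bg (cz v₁) v₂ x n + Bg (cz v₁) v₂ x' n := by
    intro n hn
    rw [o.add_left hxx' hcN hn, o.add_left hxN hx'N hn, o.Bc n hn, add_zero]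
  have hz1 : x * x' * v₁ ≠ 1 := fun e => by
    have h1 := hBz x hxN
    rw [e, o.comm _ (one_mem _) _ hxN, (sy_of o).one_right hxN, o.self x hxN, o.comm _ hx'N _ hxN, hB] at h1
    exact absurd h1 (by decide)
  obtain ⟨g, hg, hgn⟩ := o.refl _ hzN hz1 hQz
  have ezc : x * x' * v₁ * v₁ = x * x' := by rw [mul_assoc, hcc, mul_one]
  rw [ezc] at hgn
  have gx : g * x * g⁻¹ = x' := by
    rcases hgn x hxN with ⟨h1, -⟩ | ⟨-, h1⟩
    · rw [hBz x hxN, o.self x hxN, o.comm _ hx'N _ hxN, hB] at h1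
      exact absurd h1 (by decide)
    · rw [h1, ← mul_assoc, o.sq x hxN, one_mul]
  have gV : ∀ t ∈ V₂, g * t * g⁻¹ = t := by
    intro t ht
    rcases hgn t (hVN ht) with ⟨-, h1⟩ | ⟨h1, -⟩
    · exact h1
    · rw [hBz t (hVN ht), P.rk.iso x hx t (hVR ht), B_of_Q hL.2.2.2 hx' (hVL ht)] at h1
      exact absurd h1 (by decide)
  have hg2 : g ∈ cz v₂ := mem_cz.2 (mul_inv_eq_iff_eq_mul.1 (gV _ h.vV2))
  refine ⟨g, ⟨⟨hg, hg2⟩, ?_⟩, ?_⟩
  · apply Cfsg.Agent.MinSimple.VModule.mem_normalizer_of_map_le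
    rintro _ ⟨t, ht, rfl⟩
    show g * t * g⁻¹ ∈ V₂
    rw [gV t ht]; exact ht
  · apply Subgroup.eq_of_le_of_card_ge
    · intro t ht
      rw [mem_conj] at ht
      have e3 : t = g * (g⁻¹ * t * g) * g⁻¹ := by group
      rw [e3]
      generalize g⁻¹ * t * g = t at ht
      by_cases htV : t ∈ V₂
      · rw [gV t htV]; exact hVL htV
      · have h1 := qR t ht htV
        have e2 : t = x * (x * t) := by rw [← mul_assoc, o.sq x hxN, one_mul]
        rw [e2]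
        have e4 : g * (x * (x * t)) * g⁻¹ = g * x * g⁻¹ * (g * (x * t) * g⁻¹) := by group
        rw [e4, gx, gV _ h1]
        exact mul_mem hx' (hVL h1)
    · rw [Side.card_conj, hL.2.2.1]
      exact c8.symm.le

theorem smul_TS {g : G} (hg1 : g ∈ cz v₁) (hg2 : g ∈ cz v₂) {n : ℕ} {L : Ln G}
    (hL : L ∈ TS (cz v₁) (nc v₁ {v₂}) v₂ n) : g • L ∈ TS (cz v₁) (nc v₁ {v₂}) v₂ n := by
  have o := P.rk.o
  have hr : g * v₂ * g⁻¹ = v₂ := by rw [mem_cz.1 hg2, mul_inv_cancel_right]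
  refine ⟨?_, ?_, ?_, ?_⟩
  · rw [ln_smul, ← hr]
    exact mem_sm.2 hL.1
  · intro t ht
    rw [ln_smul, mem_conj] at ht
    have := o.nor g hg1 _ (hL.2.1 ht)
    rwa [show g * (g⁻¹ * t * g) * g⁻¹ = t by group] at this
  · rw [ln_smul, Side.card_conj]
    exact hL.2.2.1
  · intro t ht
    rw [ln_smul, mem_conj] at ht
    have h1 := o.inv g hg1 _ (hL.2.1 ht)
    rw [show g * (g⁻¹ * t * g) * g⁻¹ = t by group] at h1
    rw [h1]
    exact hL.2.2.2 _ ht

/-- the flags of the quadrangle -/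
theorem flags
    (hT : ∀ x, x ∈ T ↔ x ∈ cz v₁ ∧ x ∈ cz v₂ ∧ x ∈ normalizer (V₁ : Set G) ∧ x ∈ normalizer (V₂ : Set G))
    (hi : PP i = PM v₁ v₂ V₁) (hj : PP j = PM v₁ v₂ V₂) :
    Flags T (PP i) (PP j) (TS (cz v₁) (nc v₁ {v₂}) v₂ 4) (TS (cz v₁) (nc v₁ {v₂}) v₂ 8) inc2 ⟨V₂⟩ ⟨RR v₁ v₂ l⟩ := by
  have hM : ∀ g, g ∈ PP i ∨ g ∈ PP j → g ∈ cz v₁ ∧ g ∈ cz v₂ := by
    rintro g (hg | hg)
    · rw [hi] at hg; exact hg.1
    · rw [hj] at hg; exact hg.1
  exact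
    { hp := V2_TS h hnl hI hl P
      hl := R_TS h hnl hI hl P
      hpl := P.V2R
      Bi := by
        rw [hi]
        intro x hx
        have := (hT x).1 hx
        exact ⟨⟨this.1, this.2.1⟩, this.2.2.1⟩
      Bj := by
        rw [hj]
        intro x hx
        have := (hT x).1 hx
        exact ⟨⟨this.1, this.2.1⟩, this.2.2.2⟩
      pts := fun g hg x hx => smul_TS h hnl hI hl P (hM g hg).1 (hM g hg).2 hx
      lns := fun g hg x hx => smul_TS h hnl hI hl P (hM g hg).1 (hM g hg).2 hx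
      inc' := fun g hg x hx y hy hxy => by
        intro t ht
        rw [ln_smul, mem_conj] at ht ⊢
        exact hxy ht
      fixl := fun g hg => by
        rw [hi] at hg
        apply ln_ext
        exact conj_eq (P.nor ⟨hg.1.1, hg.2⟩)
      fixp := fun g hg => by
        rw [hj] at hg
        apply ln_ext
        exact conj_eq hg.2
      trp := fun L hL hLR => by
        obtain ⟨g, hg, e⟩ := move_line h hnl hI hl P hLR hL.2.2.1 hL.1
        exact ⟨g, by rw [hi]; exact hg, ln_ext e⟩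
      trl := fun L hL hpL => by
        obtain ⟨g, hg, e⟩ := move_plane h hnl hI hl P hL hpL
        exact ⟨g, by rw [hj]; exact hg, ln_ext e⟩
      stab := fun g hg hp hL => by
        have h1 : g ∈ cz v₁ ⊓ cz v₂ :=
          (sup_le (fun x hx => hM x (Or.inl hx)) (fun x hx => hM x (Or.inr hx)) : PP i ⊔ PP j ≤ cz v₁ ⊓ cz v₂) hg
        have h2 : g ∈ normalizer (V₂ : Set G) := mem_normalizer_of_conj (congrArg Ln.val hp)
        have h3 : g ∈ normalizer (RR v₁ v₂ l : Set G) := mem_normalizer_of_conj (congrArg Ln.val hL)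
        exact (hT g).2 ⟨h1.1, h1.2, nM h hI P h1.1 h1.2 h3, h2⟩ }

end main

end Cfsg.Agent.Omega.IId.Pf.Quad
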