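import Cfsg.Agent.Omega.IId.PlaneOf

/-!
# II.d, CASE 1, `q = 2`, case B: `C_{C₁}(N₁) = O₂(C₁)`

helper310.  `Plane` + nonlocality: every element of odd order of `F₁ = C_{C₁}(N₁)` centralises `N₁^l`, so the group
generated by these elements is normalised by `C₁` and `L₁`; hence it is trivial: `F₁ = O₂(C₁)`.
-/

set_option autoImplicit false
set_option linter.unusedSectionVars false
set_option linter.unusedVariables false

namespace Cfsg.Agent.Omega.IId.Pf.Rad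

open Cfsg.Agent.Omega.TV hiding z2
open Subgroup Cfsg Cfsg.Agent.ZN Cfsg.Agent.Omega.IId.PlaneSy Cfsg.Agent.Omega.IId.PlaneRk
open Cfsg.Agent.Omega.IId.PlaneF Cfsg.Agent.Omega.IId.PlaneOf
open Cfsg.Agent.Omega.IId.One Cfsg.Agent.Omega.IId.SpSide
open Cfsg.Agent.Omega.MinPar
open Cfsg.Agent.Omega.NoFF.Basic
open scoped Pointwise commutatorElement

universe u

variable {G : Type u} [Group G]

/-! ### Elements of odd order -/

/-- An element of odd order is a power of its square. -/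
theorem odd_pow {g : G} (ho : Odd (orderOf g)) : ∃ k : ℕ, (g * g) ^ k = g := by
  obtain ⟨k, hk⟩ := ho
  refine ⟨k + 1, ?_⟩
  have h1 : (g * g) ^ (k + 1) = g ^ (2 * k + 1) * g := by
    rw [← pow_two, ← pow_mul, ← pow_succ]
    congr 1
  rw [h1, ← hk, pow_orderOf_eq_one, one_mul]

theorem odd_comm {g x : G} (ho : Odd (orderOf g)) (h2 : g * g * x = x * (g * g)) : g * x = x * g := by
  obtain ⟨k, hk⟩ := odd_pow ho
  have h1 : Commute (g * g) x := h2
  have h3 := h1.pow_left k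
  rw [hk] at h3
  exact h3

/-- `g x g⁻¹ = x w`, `g w g⁻¹ = w`, `w² = 1`: an element of odd order fixes `x`. -/
theorem odd_fix {g x w : G} (ho : Odd (orderOf g)) (h1 : g * x * g⁻¹ = x * w) (h2 : g * w * g⁻¹ = w)
    (h3 : w * w = 1) : g * x * g⁻¹ = x := by
  have h4 : g * g * x = x * (g * g) := by
    have e1 : g * g * x * (g * g)⁻¹ = g * (g * x * g⁻¹) * g⁻¹ := by group
    have e2 : g * (x * w) * g⁻¹ = g * x * g⁻¹ * (g * w * g⁻¹) := by group
    rw [h1, e2, h1, h2, mul_assoc x, h3, mul_one] at e1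
    exact mul_inv_eq_iff_eq_mul.1 e1
  rw [odd_comm ho h4, mul_inv_cancel_right]

theorem odd_conj {g t : G} (ho : Odd (orderOf g)) : Odd (orderOf (t * g * t⁻¹)) := by
  rwa [show t * g * t⁻¹ = MulAut.conj t g from rfl, MulEquiv.orderOf_eq]

/-- A finite group without elements of odd order `≠ 1` is a 2-group. -/
theorem pGroup_of [Finite G] {P : Subgroup G} (h : ∀ g ∈ P, Odd (orderOf g) → g = 1) : IsPGroup 2 P := by
  rintro ⟨g, hg⟩
  obtain ⟨k, m, hm, he⟩ := Nat.exists_eq_two_pow_mul_odd (orderOf_pos g).ne'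
  refine ⟨k, Subtype.ext ?_⟩
  show g ^ 2 ^ k = 1
  refine h _ (pow_mem hg _) ?_
  rw [orderOf_pow_of_dvd (pow_pos two_pos k).ne' (by rw [he]; exact dvd_mul_right _ _), he,
    Nat.mul_div_cancel_left _ (pow_pos two_pos k)]
  exact hm

/-! ### The radical of a totally singular plane -/

/-- `g ∈ C` of odd order centralising `A` with `A^⊥ = A⟨c⟩` centralises `N`. -/
theorem odd_cent {C N A : Subgroup G} {r c g : G} (o : GOrth C N r c) (hA : A ≤ N)
    (hp : ∀ y ∈ N, (∀ t ∈ A, Bg C r y t = 0) → y ∈ A ∨ y * c ∈ A) (hg : g ∈ C) (ho : Odd (orderOf g))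
    (hgA : ∀ t ∈ A, g * t * g⁻¹ = t) : ∀ x ∈ N, g * x * g⁻¹ = x := by
  intro x hx
  have hs := sy_of o
  have hgx := o.nor g hg x hx
  have hw : x⁻¹ * (g * x * g⁻¹) ∈ N := mul_mem (inv_mem hx) hgx
  have hgc := o.c_fix g hg
  refine odd_fix (w := x⁻¹ * (g * x * g⁻¹)) ho (by group) ?_ (o.sq _ hw)
  have h1 := hp _ hw fun t ht => by
    rw [o.add_left (inv_mem hx) hgx (hA ht), hs.iv hx]
    nth_rewrite 2 [← hgA t ht]
    rw [o.B_inv hg hx (hA ht), z2_self]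
  generalize x⁻¹ * (g * x * g⁻¹) = w at h1 hw
  rcases h1 with h1 | h1
  · exact hgA w h1
  · have h2 := hgA _ h1
    have e : g * (w * c) * g⁻¹ = g * w * g⁻¹ * (g * c * g⁻¹) := by group
    rw [e, hgc] at h2
    exact mul_right_cancel h2

/-- `R^⊥ = R⟨c⟩` -/
theorem perp_of_rk [Finite G] {C N R : Subgroup G} {r c : G} (h : Rk C N R r c) (h4 : 4 < Nat.card R) {y : G}
    (hy : y ∈ N) (hyR : ∀ t ∈ R, Bg C r y t = 0) : y ∈ R ∨ y * c ∈ R := by
  rcases z2 (Qg C r y) with h1 | h1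
  · exact Or.inl (h.sing h4 hy hyR h1)
  · refine Or.inr (h.sing h4 (mul_mem hy h.o.c_mem) (fun t ht => ?_) (by rw [h.o.Qmulc hy, h1]; decide))
    rw [h.o.add_left hy h.o.c_mem (h.RN ht), hyR t ht, h.o.Bc _ (h.RN ht), add_zero]

/-- `R` is totally singular. -/
theorem Q_zero_rk [Finite G] {C N R : Subgroup G} {r c : G} (h : Rk C N R r c) (h4 : 4 < Nat.card R) {y : G}
    (hy : y ∈ R) : Qg C r y = 0 := by
  rcases z2 (Qg C r y) with h1 | h1
  · exact h1
  · exfalso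
    have hyN := h.RN hy
    have h2 : y * c ∈ R := h.sing h4 (mul_mem hyN h.o.c_mem) (fun t ht => by
      rw [h.o.add_left hyN h.o.c_mem (h.RN ht), h.iso y hy t ht, h.o.Bc _ (h.RN ht), add_zero])
      (by rw [h.o.Qmulc hyN, h1]; decide)
    apply h.cR
    have h3 := mul_mem (inv_mem hy) h2
    rwa [inv_mul_cancel_left] at h3

section side

variable {V W N : Subgroup G} {v v' w l : G} (S : Side V W N v v' w l)
include S

/-- `l` normalises `R = [N, N^l]`. -/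
theorem conj_l_R : MulAut.conj l • ⁅N, MulAut.conj l • N⁆ = ⁅N, MulAut.conj l • N⁆ := by
  have h1 : MulAut.conj l • ⁅N, MulAut.conj l • N⁆ = ⁅MulAut.conj l • N, MulAut.conj l • (MulAut.conj l • N)⁆ :=
    Subgroup.map_commutator _ _ _
  rw [h1, conj_conj]
  have hv : l * (l * v * l⁻¹) * l⁻¹ ∈ V := (mem_normalizer_iff.1 S.l_V _).1 ((mem_normalizer_iff.1 S.l_V _).1 S.vV)
  have e : l * l * v * (l * l)⁻¹ = l * (l * v * l⁻¹) * l⁻¹ := by group
  have n1 : l * (l * v * l⁻¹) * l⁻¹ ≠ 1 := fun h2 => S.v1 (by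
    calc v = l⁻¹ * (l⁻¹ * (l * (l * v * l⁻¹) * l⁻¹) * l) * l := by group
      _ = 1 := by rw [h2]; group)
  have n2 : l * (l * v * l⁻¹) * l⁻¹ ≠ v' := fun h2 => S.ne (by
    rw [← S.l_v] at h2
    have h3 : l * v * l⁻¹ = v := by
      calc l * v * l⁻¹ = l⁻¹ * (l * (l * v * l⁻¹) * l⁻¹) * l := by group
        _ = v := by rw [h2]; group
    rw [← S.l_v, h3])
  rcases (S.memV _).1 hv with h2 | h2 | h2 | h2
  · exact absurd h2 n1
  · have h3 : MulAut.conj (l * l) • N = MulAut.conj (1 : G) • N := by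
      apply S.conj_N_eq
      rw [e, h2]; group
    rw [h3, map_one, one_smul, commutator_comm]
  · exact absurd h2 n2
  · have h3 : MulAut.conj (l * l) • N = MulAut.conj (l * w * l⁻¹) • N := by
      apply S.conj_N_eq
      rw [e, h2, S.w'_v]
    rw [h3]
    have h4 : MulAut.conj l • N = MulAut.conj (l * w * l⁻¹) • (MulAut.conj l • N) :=
      (conj_eq_of_centralizer S.w'_N').symm
    nth_rewrite 1 [h4]
    have h5 : MulAut.conj (l * w * l⁻¹) • ⁅N, MulAut.conj l • N⁆ =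
        ⁅MulAut.conj (l * w * l⁻¹) • N, MulAut.conj (l * w * l⁻¹) • (MulAut.conj l • N)⁆ :=
      Subgroup.map_commutator _ _ _
    rw [commutator_comm, ← h5]
    exact conj_eq_of_centralizer (centralizer_le ((R_le S).trans inf_le_right) S.w'_N')

end side

section main

variable [Finite G] {T V₁ V₂ L₁ L₂ : Subgroup G} {v₁ v₂ s : G}

/-- the elements of odd order of `F₁` -/
def XX (v₁ v₂ : G) : Subgroup G :=
  closure {f | f ∈ cz v₁ ⊓ centralizer (nc v₁ {v₂} : Set G) ∧ Odd (orderOf f)}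

theorem XX_le : XX v₁ v₂ ≤ cz v₁ ⊓ centralizer (nc v₁ {v₂} : Set G) := by
  rw [XX, closure_le]
  exact fun f hf => hf.1

/-- **`F₁ = O₂(C₁)`** -/
theorem F1_eq (h : One T V₁ V₂ L₁ L₂ v₁ v₂ s) (hnl : NonLoc (cz v₁) (cz v₂))
    (hI : ∃ x ∈ nc v₁ {v₂}, ∃ y ∈ nc v₂ {v₁}, x * y ≠ y * x) {v' w l : G} (hl : l ∈ L₁)
    (P : Plane V₁ V₂ v₁ v₂ v' w l) :
    cz v₁ ⊓ centralizer (nc v₁ {v₂} : Set G) = ZN.o2 (cz v₁) := by
  have hb := h.toBase
  have o₁ := h.orth hI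
  have o₂ := h.symm.orth (One.hI_symm hI)
  have S := P.side
  set F := cz v₁ ⊓ centralizer (nc v₁ {v₂} : Set G) with hF
  set R : Subgroup G := ⁅nc v₁ {v₂}, MulAut.conj l • nc v₁ {v₂}⁆ with hR
  have hRN : R ≤ nc v₁ {v₂} := P.rk.RN
  -- `C₁` normalises `X`
  have hC1 : cz v₁ ≤ normalizer (XX v₁ v₂ : Set G) := by
    intro g hg
    apply Cfsg.Agent.MinSimple.VModule.mem_normalizer_of_map_le
    rw [XX, MonoidHom.map_closure, closure_le]
    rintro _ ⟨f, ⟨hf, ho⟩, rfl⟩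
    refine subset_closure ⟨?_, odd_conj ho⟩
    exact (mem_normalizer_iff.1 (hb.F1_norm hg) f).1 hf
  -- `l⁻¹ X l ≤ X`
  have key : ∀ f ∈ F, Odd (orderOf f) → l⁻¹ * f * l ∈ F := by
    intro f hf ho
    have hfV : f * v' * f⁻¹ = v' := by
      have h1 := (mem_normalizer_iff.1 (P.F1 hf) v').1 S.v'V
      rcases hb.conj1 hf.1 h1 S.v'V with h2 | h2
      · exact h2
      · refine odd_fix (w := v₁) ho ?_ ?_ hb.vq1
        · rw [h2, S.comm]
        · rw [mem_cz.1 hf.1, mul_inv_cancel_right]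
    have hg : l⁻¹ * f * l ∈ cz v₁ := by
      rw [mem_cz]
      have h1 : f * (l * v₁ * l⁻¹) * f⁻¹ = l * v₁ * l⁻¹ := by rw [S.l_v, hfV]
      have h2 : f * (l * v₁ * l⁻¹) = l * v₁ * l⁻¹ * f := by
        rw [mul_inv_eq_iff_eq_mul] at h1
        exact h1
      calc l⁻¹ * f * l * v₁ = l⁻¹ * (f * (l * v₁ * l⁻¹)) * l := by group
        _ = v₁ * (l⁻¹ * f * l) := by rw [h2]; group
    have ho' : Odd (orderOf (l⁻¹ * f * l)) := by
      have := odd_conj (t := l⁻¹) ho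
      rwa [inv_inv] at this
    have h3 := odd_cent o₁ hRN (fun y hy hyR => perp_of_rk P.rk P.four hy hyR) hg ho' fun t ht => by
      have h4 : l * t * l⁻¹ ∈ R := by
        rw [hR, ← conj_l_R S]
        exact ⟨t, ht, rfl⟩
      have h5 := mem_centralizer_iff.1 hf.2 _ (hRN h4)
      calc l⁻¹ * f * l * t * (l⁻¹ * f * l)⁻¹ = l⁻¹ * (f * (l * t * l⁻¹)) * f⁻¹ * l := by group
        _ = l⁻¹ * (l * t * l⁻¹ * f) * f⁻¹ * l := by rw [← h5]
        _ = t := by group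
    exact mem_inf.2 ⟨hg, mem_centralizer_iff.2 fun x hx => (mul_inv_eq_iff_eq_mul.1 (h3 x hx)).symm⟩
  have hlX : l⁻¹ ∈ normalizer (XX v₁ v₂ : Set G) := by
    apply Cfsg.Agent.MinSimple.VModule.mem_normalizer_of_map_le
    rw [XX, MonoidHom.map_closure, closure_le]
    rintro _ ⟨f, ⟨hf, ho⟩, rfl⟩
    refine subset_closure ⟨?_, odd_conj ho⟩
    have := key f hf ho
    show l⁻¹ * f * l⁻¹⁻¹ ∈ F
    rwa [inv_inv]
  have hl' : l ∈ normalizer (XX v₁ v₂ : Set G) := by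
    have := inv_mem hlX
    rwa [inv_inv] at this
  -- `L₁` normalises `X`
  have hwC : w ∈ cz v₁ := mem_cz.2 (mem_centralizer_iff.1 S.w_N v₁ S.vN).symm
  have hL1 : L₁ ≤ normalizer (XX v₁ v₂ : Set G) := by
    intro k hk
    have hkV := hb.L1 k hk v₁ hb.vV1
    have step : ∀ g ∈ normalizer (XX v₁ v₂ : Set G), g * v₁ * g⁻¹ = k * v₁ * k⁻¹ → k ∈ normalizer (XX v₁ v₂ : Set G) := by
      intro g hg e
      have h1 : g⁻¹ * k ∈ cz v₁ := by
        rw [mem_cz]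
        calc g⁻¹ * k * v₁ = g⁻¹ * (k * v₁ * k⁻¹) * k := by group
          _ = v₁ * (g⁻¹ * k) := by rw [← e]; group
      have h2 := mul_mem hg (hC1 h1)
      rwa [mul_inv_cancel_left] at h2
    rcases (S.memV _).1 hkV with h1 | h1 | h1 | h1
    · exfalso
      apply hb.v1
      calc v₁ = k⁻¹ * (k * v₁ * k⁻¹) * k := by group
        _ = 1 := by rw [h1]; group
    · exact step 1 (one_mem _) (by rw [h1]; group)
    · exact step l hl' (by rw [h1, S.l_v])
    · refine step (w * l) (mul_mem (hC1 hwC) hl') ?_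
      have e : w * l * v₁ * (w * l)⁻¹ = w * (l * v₁ * l⁻¹) * w⁻¹ := by group
      rw [e, S.l_v, S.w_v', h1]
  have hC2 : cz v₂ ≤ normalizer (XX v₁ v₂ : Set G) :=
    (gen h.symm o₂).trans (sup_le (inf_le_right.trans hC1) hL1)
  have ho2 : ZN.o2 (XX v₁ v₂) = ⊥ :=
    hnl _ (isPGroup_o2 _) (hC1.trans (normalizer_le_normalizer_o2 _)) (hC2.trans (normalizer_le_normalizer_o2 _))
  -- `X ∩ Q₁ = 1`
  have hXC : XX v₁ v₂ ≤ cz v₁ := XX_le.trans inf_le_left
  have hXQ : XX v₁ v₂ ⊓ ZN.o2 (cz v₁) = ⊥ := by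
    rw [eq_bot_iff, ← ho2]
    refine ZN.le_o2 inf_le_left ((isPGroup_o2 _).to_le inf_le_right) ?_
    exact Half.le_normalizer_inf le_normalizer (hXC.trans (le_normalizer_o2 _))
  have hX1 : XX v₁ v₂ = ⊥ := by
    rw [eq_bot_iff, ← hXQ]
    refine le_inf le_rfl fun x hx => hb.char2 (mem_inf.2 ⟨hXC hx, mem_centralizer_iff.2 fun q hq => ?_⟩)
    have h1 : x * q * x⁻¹ * q⁻¹ ∈ XX v₁ v₂ ⊓ ZN.o2 (cz v₁) := by
      refine mem_inf.2 ⟨?_, ?_⟩
      · have h2 := (mem_normalizer_iff.1 (hC1 (o2_le _ hq)) x⁻¹).1 (inv_mem hx)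
        have e : x * q * x⁻¹ * q⁻¹ = x * (q * x⁻¹ * q⁻¹) := by group
        rw [e]
        exact mul_mem hx h2
      · exact mul_mem ((mem_normalizer_iff.1 (le_normalizer_o2 _ (hXC hx)) q).1 hq) (inv_mem hq)
    rw [hXQ, mem_bot, mul_inv_eq_one, mul_inv_eq_iff_eq_mul] at h1
    exact h1.symm
  have hF2 : IsPGroup 2 F := pGroup_of fun g hg ho => by
    have h1 : g ∈ XX v₁ v₂ := subset_closure ⟨hg, ho⟩
    rwa [hX1, mem_bot] at h1
  exact le_antisymm (ZN.le_o2 inf_le_left hF2 hb.F1_norm) hb.Q_le_F1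

end main

end Cfsg.Agent.Omega.IId.Pf.Rad
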