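import Cfsg.Agent.Omega.IId.Pf.Quad
import Cfsg.Agent.ParSys.FlagFour
import Cfsg.Agent.ParSys.FreeLoc

/-!
# II.d, CASE 1, `q = 2`, case B: the system of type `F₄`

helper310.  `sysL` : `⟨C₁, C₂⟩` has a system of parabolics of type `F₄` (`FreeLoc.SysL`) with all `q i = 2` and
`B = U = T`.
-/

set_option autoImplicit false
set_option linter.unusedSectionVars false
set_option linter.unusedVariables false

namespace Cfsg.Agent.Omega.IId.Pf.Sys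

open Cfsg.Agent.Omega.TV hiding z2
open Subgroup Cfsg Cfsg.Agent.ZN Cfsg.Agent.Omega.IId.PlaneSy Cfsg.Agent.Omega.IId.PlaneRk
open Cfsg.Agent.Omega.IId.PlaneF Cfsg.Agent.Omega.IId.PlaneOf
open Cfsg.Agent.Omega.IId.One Cfsg.Agent.Omega.IId.SpSide
open Cfsg.Agent.Omega.MinPar
open Cfsg.Agent.Omega.IId.Pf.Rad Cfsg.Agent.Omega.IId.Pf.Par Cfsg.Agent.Omega.IId.Pf.Idx
open Cfsg.Agent.Omega.IId.Pf.Geo Cfsg.Agent.Omega.IId.Pf.Quad
open Cfsg.Agent.ParSys Cfsg.Agent.ParSys.Free Cfsg.Agent.ParSys.RankTwo Cfsg.Agent.ParSys.FlagGP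

universe u

variable {G : Type u} [Group G]

/-- the minimal parabolics -/
def PF (v₁ v₂ : G) (V₁ V₂ : Subgroup G) : Fin 4 → Subgroup G :=
  ![PE v₂ V₁ V₂, PM v₁ v₂ V₂, PM v₁ v₂ V₁, PE v₁ V₁ V₂]

section

variable (v₁ v₂ : G) (V₁ V₂ : Subgroup G)

theorem PF0 : PF v₁ v₂ V₁ V₂ 0 = PE v₂ V₁ V₂ := rfl
theorem PF1 : PF v₁ v₂ V₁ V₂ 1 = PM v₁ v₂ V₂ := rfl
theorem PF2 : PF v₁ v₂ V₁ V₂ 2 = PM v₁ v₂ V₁ := rfl
theorem PF3 : PF v₁ v₂ V₁ V₂ 3 = PE v₁ V₁ V₂ := rfl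

end

variable [Finite G] {T V₁ V₂ L₁ L₂ : Subgroup G} {v₁ v₂ s : G}
  (h : One T V₁ V₂ L₁ L₂ v₁ v₂ s) (hnl : NonLoc (cz v₁) (cz v₂))
  (hI : ∃ x ∈ nc v₁ {v₂}, ∃ y ∈ nc v₂ {v₁}, x * y ≠ y * x)

include h hnl hI

/-- a plane on side 1 -/
theorem plane1 : ∃ v' w, ∃ l ∈ L₁, Plane V₁ V₂ v₁ v₂ v' w l := by
  obtain ⟨x, hx, hx1, hxv⟩ := exists_x h
  obtain ⟨w, l, hl, P⟩ := exists_plane h hI hx hx1 hxv
  exact ⟨x, w, l, hl, P⟩

theorem T_iff' : ∀ x, x ∈ T ↔ x ∈ cz v₁ ∧ x ∈ cz v₂ ∧ x ∈ normalizer (V₁ : Set G) ∧ x ∈ normalizer (V₂ : Set G) := by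
  obtain ⟨v', w, l, hl, P⟩ := plane1 h hnl hI
  exact fun x => T_iff h hnl hI hl P

theorem le_PF : ∀ i, T ≤ PF v₁ v₂ V₁ V₂ i := by
  have hT := T_iff' h hnl hI
  intro i
  fin_cases i
  · intro x hx
    have := (hT x).1 hx
    exact ⟨this.2.1, this.2.2⟩
  · intro x hx
    have := (hT x).1 hx
    exact ⟨⟨this.1, this.2.1⟩, this.2.2.2⟩
  · intro x hx
    have := (hT x).1 hx
    exact ⟨⟨this.1, this.2.1⟩, this.2.2.1⟩
  · intro x hx
    have := (hT x).1 hx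
    exact ⟨this.1, this.2.2⟩

theorem PF_le : ∀ i, PF v₁ v₂ V₁ V₂ i ≤ cz v₁ ⊔ cz v₂ := by
  intro i
  fin_cases i
  · exact inf_le_left.trans le_sup_right
  · exact (inf_le_left.trans inf_le_left).trans le_sup_left
  · exact (inf_le_left.trans inf_le_left).trans le_sup_left
  · exact inf_le_left.trans le_sup_left

theorem gen_PF : cz v₁ ⊔ cz v₂ ≤ ⨆ i, PF v₁ v₂ V₁ V₂ i := by
  obtain ⟨v', w, l, hl, P⟩ := plane1 h hnl hI
  have o₁ := P.rk.o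
  have o₂ := h.symm.orth (One.hI_symm hI)
  have hi : ∀ i, PF v₁ v₂ V₁ V₂ i ≤ ⨆ i, PF v₁ v₂ V₁ V₂ i := fun i => le_iSup (fun i => PF v₁ v₂ V₁ V₂ i) i
  have hM : cz v₁ ⊓ cz v₂ ≤ ⨆ i, PF v₁ v₂ V₁ V₂ i :=
    (gen_M h hnl hI hl P).trans (sup_le (hi 2) (hi 1))
  have hL2 : L₂ ≤ ⨆ i, PF v₁ v₂ V₁ V₂ i := (L2_PE h.toBase).trans (hi 3)
  have hL1 : L₁ ≤ ⨆ i, PF v₁ v₂ V₁ V₂ i := by
    refine le_trans ?_ (hi 0)
    have := L2_PE h.toBase.symm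
    rwa [PE_comm] at this
  refine sup_le ((gen h o₁).trans (sup_le hM hL2)) ((gen h.symm o₂).trans (sup_le ?_ hL1))
  rw [inf_comm]
  exact hM

theorem card_PF : ∀ i, T.relIndex (PF v₁ v₂ V₁ V₂ i) = 3 := by
  obtain ⟨v', w, l, hl, P⟩ := plane1 h hnl hI
  obtain ⟨v'', w', l', hl', P'⟩ := plane1 h.symm hnl.symm (One.hI_symm hI)
  intro i
  fin_cases i
  · have := idx_PE h.symm hnl.symm (One.hI_symm hI) hl' P'
    rwa [PE_comm] at this
  · have := idx_PM h.symm hnl.symm (One.hI_symm hI) hl' P'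
    rwa [PM_comm] at this
  · exact idx_PM h hnl hI hl P
  · exact idx_PE h hnl hI hl P

/-- the rank two residues -/
theorem gp_PF : ∀ i j, i ≠ j → GPp T (PF v₁ v₂ V₁ V₂) i j (CoxeterMatrix.F₄ i j) := by
  obtain ⟨v', w, l, hl, P⟩ := plane1 h hnl hI
  obtain ⟨v'', w', l', hl', P'⟩ := plane1 h.symm hnl.symm (One.hI_symm hI)
  have hT := T_iff' h hnl hI
  have hT' : ∀ x, x ∈ T ↔ x ∈ cz v₂ ∧ x ∈ cz v₁ ∧ x ∈ normalizer (V₂ : Set G) ∧ x ∈ normalizer (V₁ : Set G) := by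
    intro x
    rw [hT x]
    tauto
  have hBP := le_PF h hnl hI
  have g01 := plane_gp h.symm hnl.symm (One.hI_symm hI) hl' P' hT' (i := (0 : Fin 4)) (j := 1) (PP := PF v₁ v₂ V₁ V₂)
    (by decide) hBP (PE_comm _ _ _).symm (PM_comm _ _ _).symm
  have g32 := plane_gp h hnl hI hl P hT (i := (3 : Fin 4)) (j := 2) (PP := PF v₁ v₂ V₁ V₂) (by decide) hBP rfl rfl
  have F := Quad.flags h hnl hI hl P hT (i := (2 : Fin 4)) (j := 1) (PP := PF v₁ v₂ V₁ V₂) rfl rfl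
  have g21 := F.gpp_four hBP (by decide)
    (fun p hp p' hp' hpp l hl l' hl' h1 h2 h3 h4 => pu P.rk.o hp hp' hpp hl hl' h1 h2 h3 h4)
    (fun p hp l hl hpl => quad_q P.rk.o h.v2 (P.rk.card_N P.four) hp hl hpl)
  have g03 := digon_E h.toBase hT (i := (0 : Fin 4)) (j := 3) (PP := PF v₁ v₂ V₁ V₂) hBP rfl rfl
  have g13 := digon_M h.toBase hT (i := (1 : Fin 4)) (j := 3) (PP := PF v₁ v₂ V₁ V₂) hBP rfl rfl
  have g20 := digon_M h.toBase.symm hT' (i := (2 : Fin 4)) (j := 0) (PP := PF v₁ v₂ V₁ V₂) hBP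
    (PM_comm _ _ _).symm (PE_comm _ _ _).symm
  intro i j hij
  fin_cases i <;> fin_cases j
  · exact absurd rfl hij
  · exact g01.1
  · exact g20.2
  · exact g03.1
  · exact g01.2
  · exact absurd rfl hij
  · exact g21.2
  · exact g13.1
  · exact g20.1
  · exact g21.1
  · exact absurd rfl hij
  · exact g32.2
  · exact g03.2
  · exact g13.2
  · exact g32.1
  · exact absurd rfl hij

/-- a 2-group normalised by `⟨C₁, C₂⟩` is trivial -/
theorem core {g : G} (hg : g ∈ T) (hc : ∀ x ∈ cz v₁ ⊔ cz v₂, x⁻¹ * g * x ∈ T) : g = 1 := by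
  set G₀ := cz v₁ ⊔ cz v₂ with hG₀
  let U : Subgroup G := closure {y | ∃ x ∈ G₀, y = x⁻¹ * g * x}
  have hU : U ≤ T := by
    rw [closure_le]
    rintro _ ⟨x, hx, rfl⟩
    exact hc x hx
  have hn : G₀ ≤ normalizer (U : Set G) := by
    intro k hk
    apply Cfsg.Agent.MinSimple.VModule.mem_normalizer_of_map_le
    rw [MonoidHom.map_closure, closure_le]
    rintro _ ⟨y, ⟨x, hx, rfl⟩, rfl⟩
    refine subset_closure ⟨x * k⁻¹, mul_mem hx (inv_mem hk), ?_⟩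
    show k * (x⁻¹ * g * x) * k⁻¹ = _
    group
  have h1 := hnl U (h.pT.to_le hU) (le_sup_left.trans hn) (le_sup_right.trans hn)
  have h2 : g ∈ U := subset_closure ⟨1, one_mem _, by group⟩
  rwa [h1, mem_bot] at h2

/-- **The system of type `F₄`.** -/
theorem sysL : FreeLoc.SysL CoxeterMatrix.F₄.toCoxeterSystem (T.subgroupOf (cz v₁ ⊔ cz v₂))
    (fun i => (PF v₁ v₂ V₁ V₂ i).subgroupOf (cz v₁ ⊔ cz v₂)) (T.subgroupOf (cz v₁ ⊔ cz v₂)) (fun _ => 2) := by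
  have hBP := le_PF h hnl hI
  have hPG := PF_le h hnl hI
  have hc3 := card_PF h hnl hI
  have hle : ∀ i, T.subgroupOf (cz v₁ ⊔ cz v₂) ≤ (PF v₁ v₂ V₁ V₂ i).subgroupOf (cz v₁ ⊔ cz v₂) := fun i x hx => hBP i hx
  have hidx : ∀ i, (T.subgroupOf (cz v₁ ⊔ cz v₂)).relIndex ((PF v₁ v₂ V₁ V₂ i).subgroupOf (cz v₁ ⊔ cz v₂)) = 3 := by
    intro i
    rw [relIndex_subgroupOf (hPG i), hc3 i]
  refine
    { le := hle
      gen := ?_
      gp := ?_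
      card := hidx
      two := fun i => le_rfl
      U_le := le_rfl
      pan := ?_
      clo := fun i g hg x hx hgx => hgx
      core := ?_ }
  · have h1 := gen_PF h hnl hI
    apply Subgroup.map_injective (cz v₁ ⊔ cz v₂).subtype_injective
    rw [Subgroup.map_iSup, ← MonoidHom.range_eq_map, Subgroup.range_subtype]
    apply le_antisymm
    · refine iSup_le fun i => ?_
      rw [subgroupOf_map_subtype]
      exact inf_le_right
    · refine h1.trans (iSup_le fun i => ?_)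
      refine le_trans ?_ (le_iSup _ i)
      rw [subgroupOf_map_subtype]
      exact le_inf le_rfl (hPG i)
  · rw [gp_iff]
    intro i j hij
    exact gpp_restrict hBP hPG (gp_PF h hnl hI i j hij)
  · intro i g hg x hx hxB hgx y hy
    exact pan_three (P := fun i => (PF v₁ v₂ V₁ V₂ i).subgroupOf (cz v₁ ⊔ cz v₂)) (hle i) (hidx i) hg hx hxB hgx hy
  · intro g hg hx
    apply Subtype.ext
    exact core h hnl hI hg fun x hxG => hx ⟨x, hxG⟩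

end Cfsg.Agent.Omega.IId.Pf.Sys
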